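import Groth.Agent.InvX.Pullback
import Groth.Agent.InvX.Tensor
import Groth.Agent.InvUfdLib.Extend
import Groth.Agent.InvX.GenLocusPull
import Groth.Agent.PicClLib.Basic

/-!
# Frames, transition functions and gluing
-/

set_option autoImplicit false

universe u

open CategoryTheory AlgebraicGeometry TopologicalSpace Opposite

namespace Groth.Agent.Para81

open Groth.Agent.AModX Groth.Agent.InvX

variable {X Y : Scheme.{u}} {M : X.Modules}

/-- A coboundary expressing the transition functions gives a frame on the union. -/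
theorem exists_frame_glue {ι : Type u} (U : ι → X.Opens) (V : X.Opens) (hle : ∀ i, U i ≤ V)
    (hcov : ∀ x ∈ V, ∃ i, x ∈ U i) (e : ∀ i, Γ(M, U i)) (he : ∀ i, IsFrame (e i))
    (c : ∀ i, Γ(X, U i)) (hc : ∀ i, IsUnit (c i))
    (h : ∀ i j, res M (inf_le_left : U i ⊓ U j ≤ U i) (c i • e i) = res M inf_le_right (c j • e j)) :
    ∃ s : Γ(M, V), IsFrame s := by
  obtain ⟨s, hs, -⟩ := existsUnique_glue (M := M) (V := V) U hle hcov (fun i => c i • e i) h
  exact ⟨s, InvUfdLib.isFrame_of_cover U hle hcov s fun i => hs i ▸ (he i).isUnit_smul (hc i)⟩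

/-- Coordinates of two compatible families of frames transform by the transition functions. -/
theorem coord_mul {U U' W : X.Opens} {e : Γ(M, U)} {e' : Γ(M, U')} (he' : IsFrame e')
    {hU : W ≤ U} {hU' : W ≤ U'} {c t c' : Γ(X, W)} {x : Γ(M, W)}
    (hx : x = c • res M hU e) (hx' : x = c' • res M hU' e') (ht : res M hU e = t • res M hU' e') :
    c * t = c' := by
  refine he'.coord_unique hU' ?_
  rw [mul_smul, ← ht, ← hx, hx']

theorem pullElt_res (r : Y ⟶ X) {U V : X.Opens} (h : V ≤ U) (x : Γ(M, U)) :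
    pullElt r (res M h x) = res ((Scheme.Modules.pullback r).obj M) (r.preimage_mono h) (pullElt r x) :=
  app_res ((Scheme.Modules.pullbackPushforwardAdjunction r).unit.app M) h x

theorem pullElt_smul (r : Y ⟶ X) {U : X.Opens} (c : Γ(X, U)) (x : Γ(M, U)) :
    pullElt r (c • x) = r.app U c • pullElt r x :=
  Scheme.Modules.Hom.app_smul ((Scheme.Modules.pullbackPushforwardAdjunction r).unit.app M) c x

/-- A trivial restriction has a frame. -/
theorem exists_frame_of_iso (U : X.Opens)
    (h : Nonempty (M.restrict U.ι ≅ Coh.structureModule (U : Scheme.{u}))) :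
    ∃ s : Γ(M, U), IsFrame s := by
  obtain ⟨e⟩ := h
  have h1 : IsFrame (e.inv.app ⊤ (1 : Γ((U : Scheme.{u}), ⊤))) :=
    InvX.IsFrame.map_iso e.symm (InvUfdLib.isFrame_one)
  exact ⟨_, (InvUfdLib.isFrame_of_restrict U.ι h1).res U.ι_image_top.ge⟩

theorem nonempty_iso_of_frame_opens (U : X.Opens) (h : ∃ s : Γ(M, U), IsFrame s) :
    Nonempty (M.restrict U.ι ≅ Coh.structureModule (U : Scheme.{u})) :=
  let ⟨_, hs⟩ := h; InvUfdLib.nonempty_iso_restrict_of_frame hs

/-- Frames near each point of an open make the restriction invertible. -/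
theorem isInvertible_restrict_of_frames (U : X.Opens)
    (h : ∀ x ∈ U, ∃ W : X.Opens, x ∈ W ∧ ∃ e : Γ(M, W), IsFrame e) :
    PicF.IsInvertible (M.restrict U.ι) := by
  refine isInvertible_of_frames fun x => ?_
  obtain ⟨W, hxW, e, he⟩ := h (U.ι x) x.2
  exact ⟨U.ι ⁻¹ᵁ W, hxW, _, InvUfdLib.isFrame_restrict U.ι (he.res (U.ι.image_preimage_le W))⟩

end Groth.Agent.Para81
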