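import Groth.Agent.AModX.Res

/-!
# Sections over basic opens of the spectrum of a localization
-/

set_option autoImplicit false

universe u

open CategoryTheory AlgebraicGeometry TopologicalSpace Opposite

namespace Groth.Agent.Para81

open Groth.Agent.AModX

/-- A basic open of a spectrum. -/
abbrev bo {R : CommRingCat.{u}} (r : R) : (Spec R).Opens := PrimeSpectrum.basicOpen r

theorem resR_algebraMap {R : CommRingCat.{u}} {U V : (Spec R).Opens} (h : V ≤ U) (a : R) :
    resR h (algebraMap R Γ(Spec R, U) a) = algebraMap R Γ(Spec R, V) a := rfl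

theorem app_resR {X Y : Scheme.{u}} (π : X ⟶ Y) {U V : Y.Opens} (h : V ≤ U) (x : Γ(Y, U)) :
    π.app V (resR h x) = resR (π.preimage_mono h) (π.app U x) :=
  ConcreteCategory.congr_hom (π.naturality (homOfLE h).op) x

theorem app_algebraMap {A B : CommRingCat.{u}} (φ : A ⟶ B) (U : (Spec A).Opens) (a : A) :
    (Spec.map φ).app U (algebraMap A Γ(Spec A, U) a) =
      algebraMap B Γ(Spec B, (Spec.map φ) ⁻¹ᵁ U) (φ a) := by
  have h := ConcreteCategory.congr_hom (Scheme.ΓSpecIso_inv_naturality φ) a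
  change ((Spec A).presheaf.map (homOfLE le_top).op ≫ (Spec.map φ).app U) ((Scheme.ΓSpecIso A).inv a) = _
  rw [(Spec.map φ).naturality]
  exact congrArg ((Spec B).presheaf.map _) h.symm

theorem isUnit_algebraMap_of_le {R : CommRingCat.{u}} {V : (Spec R).Opens} {f : R} (h : V ≤ bo f) :
    IsUnit (algebraMap R Γ(Spec R, V) f) := by
  rw [← resR_algebraMap h]
  exact (IsLocalization.Away.algebraMap_isUnit (S := Γ(Spec R, bo f)) f).map _

variable {A B : CommRingCat.{u}} [Algebra A B] (S : Submonoid A) [IsLocalization S B]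

/-- The map of spectra. -/
noncomputable abbrev spMap (A B : CommRingCat.{u}) [Algebra A B] : Spec B ⟶ Spec A :=
  Spec.map (CommRingCat.ofHom (algebraMap A B))

theorem preimage_bo (f : A) : spMap A B ⁻¹ᵁ bo f = bo (algebraMap A B f) := rfl

theorem preimage_inf_bo {s : A} (hs : s ∈ S) (U : (Spec A).Opens) :
    spMap A B ⁻¹ᵁ (U ⊓ bo s) = spMap A B ⁻¹ᵁ U := by
  apply Opens.ext
  ext x
  exact ⟨fun h => h.1, fun h => ⟨h, fun hmem =>
    x.isPrime.ne_top (x.asIdeal.eq_top_of_isUnit_mem hmem (IsLocalization.map_units B ⟨s, hs⟩))⟩⟩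

include S in
/-- A section vanishing on the localization vanishes near it. -/
theorem zero_descend {U : (Spec A).Opens} {f : A} (hU : U = bo f) (x : Γ(Spec A, U))
    (hx : (spMap A B).app U x = 0) :
    ∃ s ∈ S, ∀ (V : (Spec A).Opens) (h : V ≤ U), V ≤ bo s → resR h x = 0 := by
  subst hU
  obtain ⟨⟨a, ⟨_, n, rfl⟩⟩, ha⟩ :=
    IsLocalization.surj (M := Submonoid.powers f) (S := Γ(Spec A, bo f)) x
  simp only at ha
  have h1 : algebraMap B Γ(Spec B, bo (algebraMap A B f)) (algebraMap A B a) = 0 := by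
    have h := congrArg ((spMap A B).app (bo f)) ha
    rw [map_mul, hx, zero_mul, app_algebraMap] at h
    exact h.symm
  obtain ⟨⟨_, k, rfl⟩, hk⟩ :=
    (IsLocalization.map_eq_zero_iff (Submonoid.powers (algebraMap A B f)) _ _).1 h1
  simp only [← map_pow, ← map_mul] at hk
  obtain ⟨⟨s, hs⟩, hs'⟩ := (IsLocalization.map_eq_zero_iff S B _).1 hk
  refine ⟨s, hs, fun V hV hVs => ?_⟩
  have h2 := congrArg (resR hV) ha
  rw [map_mul, resR_algebraMap, resR_algebraMap] at h2
  have hu : IsUnit (algebraMap A Γ(Spec A, V) (f ^ n)) := by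
    rw [map_pow]; exact (isUnit_algebraMap_of_le hV).pow n
  have h3 : algebraMap A Γ(Spec A, V) a = 0 := by
    have hu' : IsUnit (algebraMap A Γ(Spec A, V) (s * f ^ k)) := by
      rw [map_mul, map_pow]; exact (isUnit_algebraMap_of_le hVs).mul ((isUnit_algebraMap_of_le hV).pow k)
    refine hu'.mul_right_eq_zero.1 ?_
    rw [← map_mul, mul_assoc, hs', map_zero]
  rw [h3] at h2
  exact hu.mul_left_eq_zero.1 h2

include S in
/-- Sections equal on the localization are equal near it. -/
theorem eq_descend {U : (Spec A).Opens} {f : A} (hU : U = bo f) (x y : Γ(Spec A, U))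
    (hxy : (spMap A B).app U x = (spMap A B).app U y) :
    ∃ s ∈ S, ∀ (V : (Spec A).Opens) (h : V ≤ U), V ≤ bo s → resR h x = resR h y := by
  obtain ⟨s, hs, h⟩ := zero_descend S hU (x - y) (by rw [map_sub, hxy, sub_self])
  exact ⟨s, hs, fun V hV hVs => sub_eq_zero.1 ((map_sub _ x y).symm.trans (h V hV hVs))⟩

include S in
/-- A section over the localization comes from a neighbourhood. -/
theorem lift_descend {U : (Spec A).Opens} {f : A} (hU : U = bo f)
    (y : Γ(Spec B, spMap A B ⁻¹ᵁ U)) :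
    ∃ s ∈ S, ∃ x : Γ(Spec A, U ⊓ bo s),
      (spMap A B).app (U ⊓ bo s) x = resR ((spMap A B).preimage_mono inf_le_left) y := by
  subst hU
  obtain ⟨⟨b, ⟨_, n, rfl⟩⟩, hb⟩ :=
    IsLocalization.surj (M := Submonoid.powers (algebraMap A B f))
      (S := Γ(Spec B, bo (algebraMap A B f))) y
  simp only at hb
  obtain ⟨⟨a, ⟨s, hs⟩⟩, ha⟩ := IsLocalization.surj (M := S) (S := B) b
  simp only at ha
  let V := bo f ⊓ bo s
  have hu : IsUnit (algebraMap A Γ(Spec A, V) (s * f ^ n)) := by
    rw [map_mul, map_pow]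
    exact (isUnit_algebraMap_of_le inf_le_right).mul ((isUnit_algebraMap_of_le inf_le_left).pow n)
  refine ⟨s, hs, algebraMap A Γ(Spec A, V) a * ↑(hu.unit⁻¹), ?_⟩
  refine (hu.map ((spMap A B).app V).hom).mul_left_inj.1 ?_
  rw [← map_mul, mul_assoc, IsUnit.val_inv_mul, mul_one, app_algebraMap, app_algebraMap]
  have hb' : y * algebraMap B Γ(Spec B, spMap A B ⁻¹ᵁ bo f) (algebraMap A B f ^ n) =
      algebraMap B Γ(Spec B, spMap A B ⁻¹ᵁ bo f) b := hb
  have h2 := congrArg (resR ((spMap A B).preimage_mono (inf_le_left : V ≤ bo f))) hb'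
  rw [map_mul, resR_algebraMap, resR_algebraMap] at h2
  show algebraMap B _ (algebraMap A B a) = _ * algebraMap B _ (algebraMap A B (s * f ^ n))
  rw [← ha, map_mul, map_mul (algebraMap A B) s, map_mul, ← h2, map_pow (algebraMap A B) f n]
  ring

include S in
/-- A unit over the localization comes from a unit on a neighbourhood. -/
theorem unit_descend {U : (Spec A).Opens} {f : A} (hU : U = bo f)
    (y : Γ(Spec B, spMap A B ⁻¹ᵁ U)) (hy : IsUnit y) :
    ∃ s ∈ S, ∃ x : Γ(Spec A, U ⊓ bo s), IsUnit x ∧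
      (spMap A B).app (U ⊓ bo s) x = resR ((spMap A B).preimage_mono inf_le_left) y := by
  obtain ⟨z, hz⟩ := hy.exists_right_inv
  obtain ⟨s, hs, x, hx⟩ := lift_descend S hU y
  obtain ⟨t, ht, w, hw⟩ := lift_descend S hU z
  have hV : U ⊓ bo s ⊓ bo t = bo (f * s * t) := by
    rw [hU]
    show _ = PrimeSpectrum.basicOpen (f * s * t)
    rw [PrimeSpectrum.basicOpen_mul, PrimeSpectrum.basicOpen_mul]
    rfl
  let V := U ⊓ bo s ⊓ bo t
  have hVt : V ≤ U ⊓ bo t := inf_le_inf_right _ inf_le_left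
  obtain ⟨r, hr, hone⟩ := eq_descend S hV
    (resR (inf_le_left : V ≤ U ⊓ bo s) x * resR hVt w) 1 (by
      rw [map_mul, app_resR, app_resR, hx, hw, resR_resR, resR_resR, ← map_mul, hz, map_one, map_one])
  have hle : U ⊓ bo (s * t * r) ≤ V ⊓ bo r := by
    rw [show bo (s * t * r) = bo s ⊓ bo t ⊓ bo r by
      show PrimeSpectrum.basicOpen (s * t * r) = _
      rw [PrimeSpectrum.basicOpen_mul, PrimeSpectrum.basicOpen_mul]
      rfl]
    exact le_inf (le_inf (le_inf inf_le_left (inf_le_right.trans (inf_le_left.trans inf_le_left)))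
      (inf_le_right.trans (inf_le_left.trans inf_le_right))) (inf_le_right.trans inf_le_right)
  refine ⟨s * t * r, mul_mem (mul_mem hs ht) hr, resR (hle.trans (inf_le_left.trans inf_le_left)) x, ?_, ?_⟩
  · have h1 := hone _ (hle.trans inf_le_left) (hle.trans inf_le_right)
    rw [map_one, map_mul, resR_resR, resR_resR] at h1
    exact IsUnit.of_mul_eq_one _ h1
  · rw [app_resR, hx, resR_resR]

end Groth.Agent.Para81
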