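import Groth.Agent.ParaFX.Functions
import Groth.Agent.Hartogs.Basic

/-!
# A parafactorial local ring has depth at least two
-/

set_option autoImplicit false

universe u

open CategoryTheory AlgebraicGeometry TopologicalSpace Opposite IsLocalRing

namespace Groth.Agent.Para81

theorem two_le_depth_of_punctured_bijective (A : Type u) [CommRing A] [IsNoetherianRing A] [IsLocalRing A]
    (hb : Function.Bijective ((Spec (CommRingCat.of A)).presheaf.map
      (homOfLE (le_top : FEt.puncturedSpec A ≤ ⊤)).op)) :
    (2 : ℕ∞) ≤ LocCoh.depth A A := by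
  let X := Spec (CommRingCat.of A)
  let Z : Set (PrimeSpectrum A) := {closedPoint A}
  have hZ : StableUnderSpecialization Z :=
    (isClosed_singleton_closedPoint A).stableUnderSpecialization
  have key : ∀ O : X.Opens, FEt.puncturedSpec A ≤ O →
      Function.Bijective (X.presheaf.map (homOfLE (le_top : O ≤ ⊤)).op) := by
    intro O hO
    by_cases h : closedPoint A ∈ O
    · have := ParaFX.mem_closedPoint_eq_top h
      subst this
      rw [show (homOfLE (le_top : (⊤ : X.Opens) ≤ ⊤)).op = 𝟙 _ from rfl, X.presheaf.map_id]
      exact Function.bijective_id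
    · have : O = FEt.puncturedSpec A := le_antisymm
        (fun x hx hx' => h (by rwa [show x = closedPoint A from hx'] at hx)) hO
      subst this
      exact hb
  have hclosed : EGA4.IsClosedAlong Z A := fun J hJ => key (EGA4.openCompl A J) fun x hx hxJ => hx (hJ hxJ)
  have h2 : (2 : ℕ∞) ≤ LocCoh.depth (Localization.AtPrime (closedPoint A).asIdeal)
      (Localization.AtPrime (closedPoint A).asIdeal) :=
    Alg6.two_le_depth_of_isClosedAlong hZ hclosed (closedPoint A) rfl
  haveI : IsLocalization.AtPrime A (closedPoint A).asIdeal :=
    IsLocalization.at_units (S := (closedPoint A).asIdeal.primeCompl) fun x hx => by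
      by_contra hu; exact hx hu
  let σ := IsLocalization.algEquiv (closedPoint A).asIdeal.primeCompl
    (Localization.AtPrime (closedPoint A).asIdeal) A
  exact h2.trans (Alg6.depth_eq_of_semilinear σ.toRingEquiv.toRingHom σ.surjective
    σ.toRingEquiv.toAddEquiv (fun r z => map_mul σ r z)).le

theorem two_le_depth_of_parafactorial (A : Type u) [CommRing A] [IsNoetherianRing A] [IsLocalRing A]
    (h : ParaF.IsParafactorialLocalRing A) : (2 : ℕ∞) ≤ LocCoh.depth A A :=
  two_le_depth_of_punctured_bijective A ((ParaFX.isParafactorialLocalRing_iff A).1 h).1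

end Groth.Agent.Para81
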