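import Groth.Agent.Para81.Near
import Groth.Agent.Para81.Depth

/-!
# A pair is parafactorial when the local rings along it are
-/

set_option autoImplicit false
set_option linter.style.haveILetI false

universe u

open CategoryTheory AlgebraicGeometry TopologicalSpace Opposite

namespace Groth.Agent.Para81

open Groth.Agent.AModX Groth.Agent.InvX

theorem parafactorial_of_iso {R S : CommRingCat.{u}} [IsLocalRing R] [IsLocalRing S] (e : R ≅ S)
    (h : ParaF.IsParafactorialLocalRing R) : ParaF.IsParafactorialLocalRing S := by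
  let v : Spec S ⟶ Spec R := Spec.map e.hom
  have hv : ∀ x, v x = IsLocalRing.closedPoint R ↔ x = IsLocalRing.closedPoint S := by
    haveI : IsLocalHom e.hom.hom := isLocalHom_of_isIso e.hom
    have h0 : v (IsLocalRing.closedPoint S) = IsLocalRing.closedPoint R :=
      IsLocalRing.comap_closedPoint e.hom.hom
    exact fun x => ⟨fun hx => v.isOpenEmbedding.injective (hx.trans h0.symm), fun hx => hx ▸ h0⟩
  refine ParaFX.isParafactorialPair_of_good _ fun T => ?_
  refine ParaFX.good_of_openImmersion _ h (T.ι ≫ v) _ ?_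
  rw [ParaFX.opensRange_homOfLE_compl, Scheme.Hom.comp_preimage]
  congr 1
  ext x
  exact (not_congr (hv x)).symm

variable {T U : Scheme.{u}} [IsLocallyNoetherian T]

theorem mem_primes {V : T.Opens} (hV : IsAffineOpen V) (p : PrimeSpectrum Γ(T, V)) :
    hV.fromSpec p ∈ V := by
  rw [← SetLike.mem_coe, ← hV.range_fromSpec]; exact ⟨p, rfl⟩

theorem isLocalization_fromSpec {V : T.Opens} (hV : IsAffineOpen V) (p : PrimeSpectrum Γ(T, V)) :
    letI := TopCat.Presheaf.algebra_section_stalk T.presheaf ⟨hV.fromSpec p, mem_primes hV p⟩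
    IsLocalization.AtPrime (T.presheaf.stalk (hV.fromSpec p)) p.asIdeal :=
  hV.isLocalization_stalk' p (mem_primes hV p)

theorem isInvertible_pushforward (j : U ⟶ T) [IsOpenImmersion j]
    (hfn : ∀ O : T.Opens, Function.Bijective (resR (inf_le_left : O ⊓ j.opensRange ≤ O)))
    (hpara : ∀ y : T, y ∉ j.opensRange → ParaF.IsParafactorialLocalRing (T.presheaf.stalk y))
    (L : U.Modules) (hL : PicF.IsInvertible L) :
    PicF.IsInvertible ((Scheme.Modules.pushforward j).obj L) := by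
  let M := (Scheme.Modules.pushforward j).obj L
  let G : T.Opens := ⨆ O : {O : T.Opens // ∃ e : Γ(M, O), IsFrame e}, O.1
  have hG : ∀ x, x ∈ G ↔ ∃ O : T.Opens, x ∈ O ∧ ∃ e : Γ(M, O), IsFrame e := fun x =>
    Opens.mem_iSup.trans ⟨fun ⟨O, hx⟩ => ⟨O.1, hx, O.2⟩, fun ⟨O, hx, h⟩ => ⟨⟨O, h⟩, hx⟩⟩
  have hrange : j.opensRange ≤ G := by
    rintro _ ⟨x, rfl⟩
    obtain ⟨O, hxO, e, he⟩ := InvX.exists_frame hL x
    exact (hG _).2 ⟨j ''ᵁ O, ⟨x, hxO, rfl⟩, _,
      InvUfdLib.isFrame_of_restrict j (InvX.IsFrame.map_iso (ParaFX.restrictPushforward j L).symm he)⟩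
  have key : ∀ z : T, z ∈ G := by
    intro z
    by_contra hz
    obtain ⟨_, ⟨V, hV, rfl⟩, hzV, -⟩ :=
      T.isBasis_affineOpens.exists_subset_of_mem_open (Set.mem_univ z) isOpen_univ
    have hV' : IsAffineOpen V := hV
    haveI : IsNoetherianRing Γ(T, V) := IsLocallyNoetherian.component_noetherian ⟨V, hV'⟩
    let W : (Spec Γ(T, V)).Opens := hV'.fromSpec ⁻¹ᵁ G
    let Z : Set (PrimeSpectrum Γ(T, V)) := (W : Set (Spec Γ(T, V)))ᶜ
    have hI : PrimeSpectrum.zeroLocus (PrimeSpectrum.vanishingIdeal Z : Set Γ(T, V)) = Z := by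
      rw [PrimeSpectrum.zeroLocus_vanishingIdeal_eq_closure]
      exact W.isOpen.isClosed_compl.closure_eq
    have hp₀ : hV'.primeIdealOf ⟨z, hzV⟩ ∈ Z := fun h => hz (by
      have h' : hV'.fromSpec (hV'.primeIdealOf ⟨z, hzV⟩) ∈ G := h
      rwa [hV'.fromSpec_primeIdealOf] at h')
    obtain ⟨q, hq, -⟩ := Ideal.exists_minimalPrimes_le
      (show PrimeSpectrum.vanishingIdeal Z ≤ (hV'.primeIdealOf ⟨z, hzV⟩).asIdeal by rw [← hI] at hp₀; exact hp₀)
    haveI hqp : q.IsPrime := hq.1.1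
    have hqW : (⟨q, hqp⟩ : PrimeSpectrum Γ(T, V)) ∉ W := by
      show (⟨q, hqp⟩ : PrimeSpectrum Γ(T, V)) ∈ Z
      rw [← hI]; exact hq.1.2
    have hgen : ∀ r : PrimeSpectrum Γ(T, V), r.asIdeal < q → r ∈ W := fun r hr => by
      by_contra hrW
      have hrZ : r ∈ Z := hrW
      rw [← hI] at hrZ
      exact lt_irrefl _ (hr.trans_le (hq.2 ⟨r.isPrime, hrZ⟩ hr.le))
    let y := hV'.fromSpec (⟨q, hqp⟩ : PrimeSpectrum Γ(T, V))
    have hyU : y ∉ j.opensRange := fun h => hqW (hrange h)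
    letI : Algebra Γ(T, V) (T.presheaf.stalk y) :=
      TopCat.Presheaf.algebra_section_stalk T.presheaf ⟨y, mem_primes hV' _⟩
    haveI : IsLocalization.AtPrime (T.presheaf.stalk y) q :=
      isLocalization_fromSpec hV' ⟨q, hqp⟩
    obtain ⟨s, hs, m, hm⟩ := frame_near_of_parafactorial (B := T.presheaf.stalk y) q (hpara y hyU)
      (M.restrict hV'.fromSpec) W hqW hgen fun x hx => by
        obtain ⟨O, hxO, e, he⟩ := (hG _).1 hx
        exact ⟨hV'.fromSpec ⁻¹ᵁ O, hxO, _,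
          InvUfdLib.isFrame_restrict _ (he.res (hV'.fromSpec.image_preimage_le O))⟩
    let O := hV'.fromSpec ''ᵁ bo s
    have hyO : y ∈ O := ⟨_, hs, rfl⟩
    have hle : O ⊓ j.opensRange ≤ hV'.fromSpec ''ᵁ (W ⊓ bo s) := by
      rintro _ ⟨⟨x, hx, rfl⟩, hxU⟩
      exact ⟨x, ⟨hrange hxU, hx⟩, rfl⟩
    have he' := (InvUfdLib.isFrame_of_restrict _ hm).res hle
    have hsect : ∀ O' : T.Opens, Function.Bijective (res M (inf_le_left : O' ⊓ j.opensRange ≤ O')) :=
      fun O' => (ConcreteCategory.isIso_iff_bijective _).1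
        (ParaFX.sectBij_pushforward j L O' _ inf_le_left rfl)
    obtain ⟨e, he⟩ := (hsect O).2 (res M hle m)
    refine hqW ((hG y).2 ⟨O, hyO, e, fun V₁ h₁ => ?_⟩)
    have h1 : V₁ ⊓ j.opensRange ≤ O ⊓ j.opensRange := inf_le_inf_right _ h₁
    refine (Function.Bijective.of_comp_iff' (hsect V₁) _).1 ?_
    have e1 : (res M (inf_le_left : V₁ ⊓ j.opensRange ≤ V₁)) ∘ (fun r : Γ(T, V₁) => r • res M h₁ e) =
        (fun r : Γ(T, V₁ ⊓ j.opensRange) => r • res M h1 (res M hle m)) ∘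
          (resR (inf_le_left : V₁ ⊓ j.opensRange ≤ V₁)) := funext fun r => by
      simp only [Function.comp_apply, res_smul, ← he, res_res]
    rw [e1]
    exact (he' _ h1).comp (hfn V₁)
  exact isInvertible_of_frames fun x =>
    let ⟨O, hx, e, he⟩ := (hG x).1 (key x)
    ⟨O, hx, e, he⟩

theorem isParafactorialPair_of_stalks (X : Scheme.{u}) [IsLocallyNoetherian X] (Y : Closeds ↥X)
    (h : ∀ y : ↥X, y ∈ Y → ParaF.IsParafactorialLocalRing (X.presheaf.stalk y)) :
    ParaF.IsParafactorialPair X Y := by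
  have hd : ∀ x : X, x ∉ Y.compl →
      (2 : ℕ∞) ≤ LocCoh.depth (X.presheaf.stalk x) (X.presheaf.stalk x) := fun x hx =>
    two_le_depth_of_parafactorial _ (h x (not_not.1 hx))
  refine (ParaFX.isParafactorialPair_iff Y).2 ⟨Hartogs.restrict_bijective Y.compl hd, fun V L hL => ?_⟩
  have hfn := ParaFX.fnBij_homOfLE Y (Hartogs.restrict_bijective Y.compl hd) V
  refine isInvertible_pushforward _ hfn (fun y hy => ?_) L hL
  have hyY : V.ι y ∈ Y := by
    by_contra hn
    exact hy (by rw [ParaFX.opensRange_homOfLE_compl]; exact hn)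
  exact parafactorial_of_iso (asIso (V.ι.stalkMap y)) (h _ hyY)

end Groth.Agent.Para81
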