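import Groth.Agent.Para81.FlatLocal
import Groth.Agent.EGA41Lib.RegSeqPow
import Groth.Agent.Alg6.AssDepth
import Groth.Agent.ParaFX.Ufd

/-!
# First Čech cohomology of the punctured spectrum in depth at least three
-/

set_option autoImplicit false
set_option linter.style.haveILetI false

universe u

open CategoryTheory AlgebraicGeometry TopologicalSpace Opposite IsLocalRing

namespace Groth.Agent.Para81

open Groth.Agent.AModX

variable {R : CommRingCat.{u}}

theorem resR_pow_mul {U V : (Spec R).Opens} (h : V ≤ U) (b : R) (n : ℕ) (x : Γ(Spec R, U)) :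
    resR h (algebraMap R Γ(Spec R, U) b ^ n * x) = algebraMap R Γ(Spec R, V) b ^ n * resR h x := by
  rw [map_mul, map_pow, resR_algebraMap]

theorem bo_mul' (a b : R) : bo a ⊓ bo b = bo (a * b) := (PrimeSpectrum.basicOpen_mul a b).symm

theorem exists_pow_mul_ext (a b : R) (z : Γ(Spec R, bo a ⊓ bo b)) :
    ∃ N : ℕ, ∀ M, N ≤ M → ∃ x : Γ(Spec R, bo a),
      resR (inf_le_left : bo a ⊓ bo b ≤ bo a) x = algebraMap R Γ(Spec R, bo a ⊓ bo b) b ^ M * z := by
  have gen : ∀ (U : (Spec R).Opens), U = bo (a * b) → ∀ (hU : U ≤ bo a) (z : Γ(Spec R, U)),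
      ∃ N : ℕ, ∀ M, N ≤ M → ∃ x : Γ(Spec R, bo a), resR hU x = algebraMap R Γ(Spec R, U) b ^ M * z := by
    rintro U rfl hU z
    obtain ⟨⟨c, ⟨_, n, rfl⟩⟩, hc⟩ :=
      IsLocalization.surj (M := Submonoid.powers (a * b)) (S := Γ(Spec R, bo (a * b))) z
    simp only at hc
    obtain ⟨v, hv⟩ := (isUnit_algebraMap_of_le (le_refl (bo a))).exists_right_inv
    refine ⟨n, fun M hM => ⟨algebraMap R _ (b ^ (M - n) * c) * v ^ n, ?_⟩⟩
    rw [map_mul, map_pow, resR_algebraMap, map_mul, map_pow, ← hc, map_pow, map_mul, mul_pow]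
    have h1 : algebraMap R Γ(Spec R, bo (a * b)) a * resR hU v = 1 := by
      rw [← resR_algebraMap hU a, ← map_mul, hv, map_one]
    calc _ = (algebraMap R Γ(Spec R, bo (a * b)) b ^ (M - n) * algebraMap R Γ(Spec R, bo (a * b)) b ^ n) * z *
          (algebraMap R Γ(Spec R, bo (a * b)) a * resR hU v) ^ n := by rw [mul_pow]; ring
      _ = _ := by rw [h1, one_pow, mul_one, ← pow_add, Nat.sub_add_cancel hM]
  exact gen _ (PrimeSpectrum.basicOpen_mul a b).symm inf_le_left z

theorem exists_pow_mul_eq_zero {U : (Spec R).Opens} {g : R} (hU : U = bo g) (b : R) (z : Γ(Spec R, U))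
    (hz : resR (inf_le_left : U ⊓ bo b ≤ U) z = 0) : ∃ M : ℕ, algebraMap R Γ(Spec R, U) b ^ M * z = 0 := by
  subst hU
  have gen : ∀ (V : (Spec R).Opens), V = bo (g * b) → ∀ (hV : V ≤ bo g), resR hV z = 0 →
      ∃ M : ℕ, algebraMap R Γ(Spec R, bo g) b ^ M * z = 0 := by
    rintro V rfl hV hz
    obtain ⟨⟨c, ⟨_, n, rfl⟩⟩, hc⟩ :=
      IsLocalization.surj (M := Submonoid.powers g) (S := Γ(Spec R, bo g)) z
    simp only at hc
    have h0 : algebraMap R Γ(Spec R, bo (g * b)) c = 0 := by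
      rw [← resR_algebraMap hV c, ← hc, map_mul, hz, zero_mul]
    obtain ⟨⟨_, k, rfl⟩, hk⟩ := (IsLocalization.map_eq_zero_iff (Submonoid.powers (g * b)) _ c).1 h0
    refine ⟨k, ?_⟩
    have hu : IsUnit (algebraMap R Γ(Spec R, bo g) g) := isUnit_algebraMap_of_le le_rfl
    refine ((hu.pow k).mul (hu.pow n)).mul_right_eq_zero.1 ?_
    have h1 := congrArg (algebraMap R Γ(Spec R, bo g)) hk
    simp only [map_mul, map_pow, map_zero, mul_pow, ← hc] at h1
    rw [← h1]; ring
  exact gen _ (PrimeSpectrum.basicOpen_mul g b).symm inf_le_left hz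

variable {ι : Type u} (f : ι → R)

/-- A family is a coboundary. -/
def IsCob (e : ∀ i j, Γ(Spec R, bo (f i) ⊓ bo (f j))) : Prop :=
  ∃ w : ∀ i, Γ(Spec R, bo (f i)), ∀ i j, e i j = resR inf_le_right (w j) - resR inf_le_left (w i)

/-- The cocycle condition. -/
def IsCoc (e : ∀ i j, Γ(Spec R, bo (f i) ⊓ bo (f j))) : Prop :=
  ∀ i j k, resR (inf_le_left : bo (f i) ⊓ bo (f j) ⊓ bo (f k) ≤ _) (e i j) +
    resR (le_inf (inf_le_left.trans inf_le_right) inf_le_right) (e j k) =
    resR (le_inf (inf_le_left.trans inf_le_left) inf_le_right) (e i k)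

theorem exists_pow_cob [Finite ι] (e : ∀ i j, Γ(Spec R, bo (f i) ⊓ bo (f j))) (he : IsCoc f e) (k : ι) :
    ∃ N : ℕ, IsCob f fun i j => algebraMap R Γ(Spec R, bo (f i) ⊓ bo (f j)) (f k ^ N) * e i j := by
  classical
  haveI := Fintype.ofFinite ι
  let z : ∀ i, Γ(Spec R, bo (f i) ⊓ bo (f k)) := fun i => resR (le_inf inf_le_right inf_le_left) (e k i)
  choose N hN using fun i => exists_pow_mul_ext (f i) (f k) (z i)
  choose x hx using fun i => hN i (Finset.univ.sup N) (Finset.le_sup (Finset.mem_univ i))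
  let N₀ := Finset.univ.sup N
  have hker : ∀ p : ι × ι, ∃ M : ℕ, algebraMap R Γ(Spec R, bo (f p.1) ⊓ bo (f p.2)) (f k) ^ M *
      (algebraMap R _ (f k) ^ N₀ * e p.1 p.2 - (resR inf_le_right (x p.2) - resR inf_le_left (x p.1))) = 0 := by
    rintro ⟨i, j⟩
    refine exists_pow_mul_eq_zero (g := f i * f j) (bo_mul' (f i) (f j)) (f k) _ ?_
    dsimp only
    let T : (Spec R).Opens := bo (f i) ⊓ bo (f j) ⊓ bo (f k)
    have h1 : T ≤ bo (f i) ⊓ bo (f k) := inf_le_inf_right _ inf_le_left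
    have h2 : T ≤ bo (f j) ⊓ bo (f k) := inf_le_inf_right _ inf_le_right
    have hxi := congrArg (resR h1) (hx i)
    have hxj := congrArg (resR h2) (hx j)
    rw [resR_resR, resR_pow_mul] at hxi hxj
    have hT : T ≤ bo (f k) ⊓ bo (f i) ⊓ bo (f j) := le_inf (le_inf inf_le_right (h1.trans inf_le_left))
      (h2.trans inf_le_left)
    have hcoc := congrArg (resR hT) (he k i j)
    rw [map_add, resR_resR, resR_resR, resR_resR] at hcoc
    rw [map_sub, map_sub, resR_pow_mul, resR_resR, resR_resR, hxi, hxj]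
    simp only [z, resR_resR]
    rw [← mul_sub, ← mul_sub, ← hcoc]
    ring
  choose M hM using hker
  refine ⟨Finset.univ.sup M + N₀,
    fun i => algebraMap R _ (f k) ^ Finset.univ.sup M * x i, fun i j => ?_⟩
  dsimp only
  rw [resR_pow_mul, resR_pow_mul, ← mul_sub, ← sub_eq_zero]
  have hle : M (i, j) ≤ Finset.univ.sup M := Finset.le_sup (Finset.mem_univ (i, j))
  rw [map_pow, pow_add, mul_assoc, ← mul_sub, ← Nat.sub_add_cancel hle, pow_add, mul_assoc, hM (i, j), mul_zero]

theorem isCob_add_smul {e e' : ∀ i j, Γ(Spec R, bo (f i) ⊓ bo (f j))} (h : IsCob f e) (h' : IsCob f e')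
    (c : R) : IsCob f fun i j => algebraMap R _ c * e i j + e' i j := by
  obtain ⟨w, hw⟩ := h
  obtain ⟨w', hw'⟩ := h'
  refine ⟨fun i => algebraMap R _ c * w i + w' i, fun i j => ?_⟩
  dsimp only
  rw [map_add, map_add, map_mul, map_mul, resR_algebraMap, resR_algebraMap, hw, hw']
  ring

/-- The elements whose multiple of a cocycle is a coboundary. -/
def cobIdeal (e : ∀ i j, Γ(Spec R, bo (f i) ⊓ bo (f j))) : Ideal R where
  carrier := {a | IsCob f fun i j => algebraMap R _ a * e i j}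
  zero_mem' := ⟨fun _ => 0, fun i j => by simp⟩
  add_mem' {a b} ha hb := by
    have := isCob_add_smul f ha hb 1
    refine (congrArg (IsCob f) (funext₂ fun i j => ?_)).mp this
    rw [map_one, one_mul, map_add, add_mul]
  smul_mem' c {a} ha := by
    have := isCob_add_smul f ha (⟨fun _ => 0, fun i j => by simp⟩ : IsCob f fun _ _ => 0) c
    refine (congrArg (IsCob f) (funext₂ fun i j => ?_)).mp this
    rw [add_zero, smul_eq_mul, map_mul, mul_assoc]

theorem exists_regular_pow [IsNoetherianRing R] [IsLocalRing R] (hd : (3 : ℕ∞) ≤ LocCoh.depth R R) :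
    ∃ x ∈ maximalIdeal R, ∀ N : ℕ, 1 ≤ N → IsSMulRegular R (x ^ N) ∧
      ∀ [IsLocalRing (R ⧸ Ideal.span {x ^ N})],
        (2 : ℕ∞) ≤ LocCoh.depth (R ⧸ Ideal.span {x ^ N}) (R ⧸ Ideal.span {x ^ N}) := by
  have hne : maximalIdeal R • (⊤ : Submodule R R) ≠ ⊤ := Alg6.maximal_smul_top_ne_top
  obtain ⟨rs, hrs, hmem, hlen⟩ := Alg6.exists_length_ge_of_le_idealDepth hne (n := 3) (by exact_mod_cast hd)
  match rs, hlen with
  | x :: b :: c :: rest, _ =>
    refine ⟨x, hmem _ (by simp), fun N hN => ?_⟩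
    have h3 : RingTheory.Sequence.IsWeaklyRegular R (List.ofFn ![x, b, c]) := by
      have h := ((RingTheory.Sequence.isWeaklyRegular_append_iff R [x, b, c] rest).1 hrs).1
      simpa [List.ofFn_succ] using h
    have hp := EGA41Lib.isWeaklyRegular_pow 3 ![x, b, c] ![N, 1, 1] (fun i => by fin_cases i <;> simp [hN]) h3
    have hp' : RingTheory.Sequence.IsWeaklyRegular R [x ^ N, b, c] := by
      simpa [List.ofFn_succ] using hp
    refine ⟨((RingTheory.Sequence.isWeaklyRegular_cons_iff R _ _).1 hp').1, ?_⟩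
    intro _
    let q := Ideal.Quotient.mk (Ideal.span {x ^ N})
    have hm : ∀ z ∈ maximalIdeal R, q z ∈ maximalIdeal (R ⧸ Ideal.span {x ^ N}) := fun z hz => by
      rw [← map_maximalIdeal_of_surjective q Ideal.Quotient.mk_surjective]
      exact Ideal.mem_map_of_mem _ hz
    have hq : RingTheory.Sequence.IsWeaklyRegular (R ⧸ Ideal.span {x ^ N}) [q b, q c] := by
      refine ⟨fun i hi => ?_⟩
      rw [isSMulRegular_quotient_iff_mem_of_smul_mem]
      intro a ha
      obtain ⟨a, rfl⟩ := Ideal.Quotient.mk_surjective a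
      match i, hi with
      | 0, _ =>
        have h0 := (isSMulRegular_quotient_iff_mem_of_smul_mem _ _).1 (hp'.regular_mod_prev 1 (by simp)) a
        simp only [List.take_succ_cons, List.take_zero, Ideal.ofList_singleton, smul_eq_mul, Ideal.mul_top,
          List.getElem_cons_succ, List.getElem_cons_zero] at h0
        simp only [List.take_zero, Ideal.ofList_nil, Ideal.bot_mul, Submodule.mem_bot,
          List.getElem_cons_zero, smul_eq_mul, q, ← map_mul, Ideal.Quotient.eq_zero_iff_mem] at ha ⊢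
        exact h0 ha
      | 1, _ =>
        have h0 := (isSMulRegular_quotient_iff_mem_of_smul_mem _ _).1 (hp'.regular_mod_prev 2 (by simp)) a
        simp only [List.take_succ_cons, List.take_zero, Ideal.ofList_cons, Ideal.ofList_nil, sup_bot_eq,
          smul_eq_mul, Ideal.mul_top, List.getElem_cons_succ, List.getElem_cons_zero, ← Ideal.span_insert] at h0
        simp only [List.take_succ_cons, List.take_zero, Ideal.ofList_singleton, smul_eq_mul, Ideal.mul_top,
          List.getElem_cons_succ, List.getElem_cons_zero] at ha ⊢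
        have e : (Ideal.span {x ^ N, b}).map q = Ideal.span {q b} := by
          rw [Ideal.map_span, Set.image_pair, Ideal.span_insert,
            show q (x ^ N) = 0 from Ideal.Quotient.eq_zero_iff_mem.2 (Ideal.mem_span_singleton_self _)]
          simp
        have hcm : ∀ z : R, q z ∈ (Ideal.span {x ^ N, b}).map q ↔ z ∈ Ideal.span {x ^ N, b} := fun z => by
          rw [← Ideal.mem_comap, Ideal.comap_map_of_surjective _ Ideal.Quotient.mk_surjective,
            ← RingHom.ker_eq_comap_bot, Ideal.mk_ker,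
            sup_eq_left.2 (Ideal.span_mono (by simp))]
        rw [← map_mul, ← e, hcm] at ha
        rw [← e, hcm]
        exact h0 ha
    have := Alg6.length_le_idealDepth (I := maximalIdeal (R ⧸ Ideal.span {x ^ N})) hq
      (List.forall_mem_cons.2 ⟨hm b (hmem _ (by simp)), List.forall_mem_cons.2 ⟨hm c (hmem _ (by simp)), by simp⟩⟩)
    simpa [LocCoh.depth] using this

theorem isSMulRegular_section {g y : R} (hy : IsSMulRegular R y) {U : (Spec R).Opens} (hU : U = bo g)
    (z : Γ(Spec R, U)) (hz : algebraMap R Γ(Spec R, U) y * z = 0) : z = 0 := by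
  subst hU
  obtain ⟨⟨c, ⟨_, n, rfl⟩⟩, hc⟩ := IsLocalization.surj (M := Submonoid.powers g) (S := Γ(Spec R, bo g)) z
  simp only at hc
  have h0 : algebraMap R Γ(Spec R, bo g) (y * c) = 0 := by rw [map_mul, ← hc, ← mul_assoc, hz, zero_mul]
  obtain ⟨⟨_, k, rfl⟩, hk⟩ := (IsLocalization.map_eq_zero_iff (Submonoid.powers g) _ _).1 h0
  have h1 : g ^ k * c = 0 := hy (show y • (g ^ k * c) = y • (0 : R) by
    simp only [smul_eq_mul, mul_zero] at hk ⊢; linear_combination hk)
  have hu : IsUnit (algebraMap R Γ(Spec R, bo g) g) := isUnit_algebraMap_of_le le_rfl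
  refine ((hu.pow k).mul (hu.pow n)).mul_right_eq_zero.1 ?_
  have h2 := congrArg (algebraMap R Γ(Spec R, bo g)) h1
  rw [map_mul, map_pow, map_zero, ← hc, map_pow] at h2
  rw [← h2]; ring

variable {B : CommRingCat.{u}} [Algebra R B]

theorem app_surjective (hs : Function.Surjective (algebraMap R B)) (g : R) :
    Function.Surjective ((spMap R B).app (bo g)) := by
  intro (z : Γ(Spec B, bo (algebraMap R B g)))
  let φ : Γ(Spec R, bo g) →+* Γ(Spec B, bo (algebraMap R B g)) := ((spMap R B).app (bo g)).hom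
  show ∃ a, φ a = z
  obtain ⟨⟨c, ⟨_, n, rfl⟩⟩, hc⟩ :=
    IsLocalization.surj (M := Submonoid.powers (algebraMap R B g)) (S := Γ(Spec B, bo (algebraMap R B g))) z
  simp only at hc
  obtain ⟨a, rfl⟩ := hs c
  obtain ⟨v, hv⟩ := (isUnit_algebraMap_of_le (le_refl (bo g))).exists_right_inv
  refine ⟨algebraMap R _ a * v ^ n, ?_⟩
  have e : ∀ b : R, φ (algebraMap R Γ(Spec R, bo g) b) =
      algebraMap B Γ(Spec B, bo (algebraMap R B g)) (algebraMap R B b) :=
    fun b => app_algebraMap (CommRingCat.ofHom (algebraMap R B)) (bo g) b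
  have hu : IsUnit (φ (algebraMap R Γ(Spec R, bo g) g ^ n)) :=
    ((isUnit_algebraMap_of_le le_rfl).pow n).map _
  refine hu.mul_left_inj.1 ?_
  rw [← map_mul, mul_assoc, ← mul_pow, mul_comm v, hv, one_pow, mul_one, e, map_pow, e, ← map_pow]
  exact hc.symm

theorem exists_eq_mul_of_app_eq_zero {y : R} (hker : ∀ a : R, algebraMap R B a = 0 → ∃ c, a = y * c) (g : R)
    (z : Γ(Spec R, bo g)) (hz : (spMap R B).app (bo g) z = 0) :
    ∃ z', z = algebraMap R Γ(Spec R, bo g) y * z' := by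
  obtain ⟨⟨c, ⟨_, n, rfl⟩⟩, hc⟩ := IsLocalization.surj (M := Submonoid.powers g) (S := Γ(Spec R, bo g)) z
  simp only at hc
  have e : (spMap R B).app (bo g) (algebraMap R Γ(Spec R, bo g) c) =
      algebraMap B Γ(Spec B, bo (algebraMap R B g)) (algebraMap R B c) :=
    app_algebraMap (CommRingCat.ofHom (algebraMap R B)) (bo g) c
  have h0 : algebraMap B Γ(Spec B, bo (algebraMap R B g)) (algebraMap R B c) = 0 := by
    rw [← e, ← hc, map_mul, hz, zero_mul]
    rfl
  obtain ⟨⟨_, k, rfl⟩, hk⟩ := (IsLocalization.map_eq_zero_iff (Submonoid.powers (algebraMap R B g)) _ _).1 h0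
  obtain ⟨d, hd⟩ := hker (g ^ k * c) (by rw [map_mul, map_pow]; exact hk)
  obtain ⟨v, hv⟩ := (isUnit_algebraMap_of_le (le_refl (bo g))).exists_right_inv
  refine ⟨algebraMap R _ d * v ^ (k + n), ?_⟩
  rw [← mul_assoc, ← map_mul, ← hd, map_mul, ← hc, map_pow, map_pow]
  calc z = z * (algebraMap R Γ(Spec R, bo g) g * v) ^ (k + n) := by rw [hv, one_pow, mul_one]
    _ = _ := by rw [mul_pow, pow_add]; ring

variable [IsNoetherianRing R] [IsLocalRing R] [Finite ι]

theorem glue_punctured (hd : (2 : ℕ∞) ≤ LocCoh.depth R R) (hcov : ∀ x : Spec R, x ≠ closedPoint R → ∃ i, x ∈ bo (f i))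
    (hle : ∀ i, bo (f i) ≤ FEt.puncturedSpec R) (v : ∀ i, Γ(Spec R, bo (f i)))
    (hv : ∀ i j, resR inf_le_left (v i) = resR (inf_le_right : bo (f i) ⊓ bo (f j) ≤ _) (v j)) :
    ∃ a : R, ∀ i, algebraMap R Γ(Spec R, bo (f i)) a = v i := by
  have hb : Function.Bijective (algebraMap R Γ(Spec R, FEt.puncturedSpec R)) :=
    (bijective_algebraMap_iff R _).2 (ParaFX.punctured_bijective R hd)
  obtain ⟨z, hz⟩ := glueR (fun i => bo (f i)) hle (fun x hx => hcov x hx) v hv
  obtain ⟨a, ha⟩ := hb.2 z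
  refine ⟨a, fun i => ?_⟩
  rw [← hz i, ← ha]
  exact (resR_algebraMap (hle i) a).symm

theorem cech_one (hd : (3 : ℕ∞) ≤ LocCoh.depth R R)
    (hcov : ∀ x : Spec R, x ≠ closedPoint R → ∃ i, x ∈ bo (f i))
    (hle : ∀ i, bo (f i) ≤ FEt.puncturedSpec R) (e : ∀ i j, Γ(Spec R, bo (f i) ⊓ bo (f j)))
    (he : IsCoc f e) : IsCob f e := by
  obtain ⟨x, hxm, hx⟩ := exists_regular_pow hd
  have hrad : maximalIdeal R ≤ (cobIdeal f e).radical := by
    rw [Ideal.radical_eq_sInf, le_sInf_iff]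
    rintro P ⟨hP, hPp⟩
    by_contra hne
    haveI : P.IsPrime := hPp
    obtain ⟨k, hk⟩ := hcov ⟨P, hPp⟩ fun h => hne (le_of_eq (congrArg PrimeSpectrum.asIdeal h).symm)
    obtain ⟨N, hN⟩ := exists_pow_cob f e he k
    exact hk (hPp.mem_of_pow_mem N (hP hN))
  obtain ⟨N, hN⟩ := hrad hxm
  have hN' : x ^ (N + 1) ∈ cobIdeal f e := by rw [pow_succ]; exact Ideal.mul_mem_right _ _ hN
  obtain ⟨hy, hdep⟩ := hx (N + 1) N.succ_pos
  obtain ⟨w, hw⟩ := hN'
  let y := x ^ (N + 1)
  let B' := CommRingCat.of (R ⧸ Ideal.span {y})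
  haveI : Nontrivial (R ⧸ Ideal.span {y}) := Ideal.Quotient.nontrivial_iff.2 fun h =>
    (maximalIdeal.isMaximal R).ne_top (top_le_iff.1 (h ▸ (Ideal.span_singleton_le_iff_mem _).2
      (Ideal.pow_mem_of_mem _ hxm _ N.succ_pos)))
  haveI : IsLocalRing (R ⧸ Ideal.span {y}) :=
    IsLocalRing.of_surjective' (Ideal.Quotient.mk _) Ideal.Quotient.mk_surjective
  haveI : IsLocalRing B' := inferInstanceAs (IsLocalRing (R ⧸ Ideal.span {y}))
  haveI : IsNoetherianRing B' := inferInstanceAs (IsNoetherianRing (R ⧸ Ideal.span {y}))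
  haveI : IsLocalHom (algebraMap R B') := IsLocalRing.local_hom_TFAE _ |>.out 0 2 |>.2 (by
    rw [show algebraMap R B' = Ideal.Quotient.mk _ from rfl,
      map_maximalIdeal_of_surjective (Ideal.Quotient.mk (Ideal.span {y})) Ideal.Quotient.mk_surjective])
  have hs : Function.Surjective (algebraMap R B') := Ideal.Quotient.mk_surjective
  have hker : ∀ a : R, algebraMap R B' a = 0 → ∃ c, a = y * c := fun a ha => by
    obtain ⟨c, hc⟩ := Ideal.mem_span_singleton'.1 (Ideal.Quotient.eq_zero_iff_mem.1 ha)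
    exact ⟨c, by rw [← hc, mul_comm]⟩
  let π := spMap R B'
  have hle' : ∀ i, bo (algebraMap R B' (f i)) ≤ FEt.puncturedSpec B' := fun i z hz hz' =>
    hle i (show π z ∈ bo (f i) from hz)
      ((congrArg π (show z = closedPoint B' from hz')).trans (comap_closedPoint (algebraMap R B')))
  have hcov' : ∀ z : Spec B', z ≠ closedPoint B' → ∃ i, z ∈ bo (algebraMap R B' (f i)) := fun z hz =>
    hcov (π z) fun h => hz (PrimeSpectrum.comap_injective_of_surjective _ hs
      (h.trans (comap_closedPoint (algebraMap R B')).symm))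
  obtain ⟨a, ha⟩ := glue_punctured (R := B') (fun i => algebraMap R B' (f i)) hdep hcov' hle'
    (fun i => π.app (bo (f i)) (w i)) (fun i j => by
      have h1 := congrArg (π.app (bo (f i) ⊓ bo (f j))) (hw i j)
      rw [map_mul, map_sub, app_resR, app_resR] at h1
      have h0 : π.app (bo (f i) ⊓ bo (f j)) (algebraMap R Γ(Spec R, bo (f i) ⊓ bo (f j)) y) = 0 := by
        refine (app_algebraMap (CommRingCat.ofHom (algebraMap R B')) _ y).trans ?_
        rw [show (CommRingCat.ofHom (algebraMap R B')) y = 0 from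
          Ideal.Quotient.eq_zero_iff_mem.2 (Ideal.mem_span_singleton_self y), map_zero]
      rw [show algebraMap R Γ(Spec R, bo (f i) ⊓ bo (f j)) (x ^ (N + 1)) =
        algebraMap R Γ(Spec R, bo (f i) ⊓ bo (f j)) y from rfl, h0, zero_mul] at h1
      exact (sub_eq_zero.1 h1.symm).symm)
  obtain ⟨c, rfl⟩ := hs a
  choose w' hw' using fun i => exists_eq_mul_of_app_eq_zero hker (f i) (w i - algebraMap R _ c) (by
    rw [map_sub, sub_eq_zero]
    exact (ha i).symm.trans (app_algebraMap (CommRingCat.ofHom (algebraMap R B')) (bo (f i)) c).symm)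
  refine ⟨w', fun i j => sub_eq_zero.1 (isSMulRegular_section hy (g := f i * f j)
    (bo_mul' (f i) (f j)) _ ?_)⟩
  have hi := congrArg (resR (inf_le_left : bo (f i) ⊓ bo (f j) ≤ bo (f i))) (hw' i)
  have hj := congrArg (resR (inf_le_right : bo (f i) ⊓ bo (f j) ≤ bo (f j))) (hw' j)
  rw [map_sub, map_mul, resR_algebraMap, resR_algebraMap] at hi hj
  have hwij : algebraMap R Γ(Spec R, bo (f i) ⊓ bo (f j)) (x ^ (N + 1)) * e i j =
      resR inf_le_right (w j) - resR inf_le_left (w i) := hw i j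
  rw [mul_sub, mul_sub, hwij, ← hj, ← hi]
  ring

end Groth.Agent.Para81
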