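import Groth.Agent.Para81.ThickenStep

/-!
# The limit of trivialisations modulo powers of an ideal
-/

set_option autoImplicit false
set_option linter.style.haveILetI false

universe u

open CategoryTheory AlgebraicGeometry TopologicalSpace Opposite IsLocalRing

namespace Groth.Agent.Para81

open Groth.Agent.AModX

variable {A : CommRingCat.{u}} {J : Ideal A} {ι : Type u} {f : ι → A}
  {t : ∀ i j, Γ(Spec A, bo (f i) ⊓ bo (f j))}

/-- A section extending a power of a generator. -/
theorem exists_section_at [Finite ι] (ht : IsTrans f t) (i : ι) :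
    ∃ (N : ℕ) (x : ∀ j, Γ(Spec A, bo (f j))),
      (∀ j k, resR inf_le_left (x j) * t j k = resR inf_le_right (x k)) ∧
        x i = algebraMap A Γ(Spec A, bo (f i)) (f i) ^ N := by
  classical
  haveI := Fintype.ofFinite ι
  let z : ∀ j, Γ(Spec A, bo (f j) ⊓ bo (f i)) := fun j => resR (le_inf inf_le_right inf_le_left) (t i j)
  choose N hN using fun j => exists_pow_mul_ext (f j) (f i) (z j)
  choose x hx using fun j => hN j (Finset.univ.sup N) (Finset.le_sup (Finset.mem_univ j))
  let N₀ := Finset.univ.sup N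
  have hker : ∀ p : ι × ι, ∃ M : ℕ, algebraMap A Γ(Spec A, bo (f p.1) ⊓ bo (f p.2)) (f i) ^ M *
      (resR inf_le_left (x p.1) * t p.1 p.2 - resR inf_le_right (x p.2)) = 0 := by
    rintro ⟨j, k⟩
    refine exists_pow_mul_eq_zero (g := f j * f k) (bo_mul' (f j) (f k)) (f i) _ ?_
    dsimp only
    let T : (Spec A).Opens := bo (f j) ⊓ bo (f k) ⊓ bo (f i)
    have hjT : T ≤ bo (f j) ⊓ bo (f i) := inf_le_inf_right _ inf_le_left
    have hkT : T ≤ bo (f k) ⊓ bo (f i) := inf_le_inf_right _ inf_le_right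
    have hxj := congrArg (resR hjT) (hx j)
    have hxk := congrArg (resR hkT) (hx k)
    rw [resR_resR, resR_pow_mul] at hxj hxk
    have hT : T ≤ bo (f i) ⊓ bo (f j) ⊓ bo (f k) :=
      le_inf (le_inf inf_le_right (hjT.trans inf_le_left)) (hkT.trans inf_le_left)
    have hm := congrArg (resR hT) (ht.mul i j k)
    rw [map_mul, resR_resR, resR_resR, resR_resR] at hm
    rw [map_sub, map_mul, resR_resR, resR_resR, hxj, hxk]
    simp only [z, resR_resR]
    rw [← hm]
    ring
  choose M hM using hker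
  let P := Finset.univ.sup M
  refine ⟨P + N₀, fun j => algebraMap A _ (f i) ^ P * x j, fun j k => ?_, ?_⟩
  · dsimp only
    rw [resR_pow_mul, resR_pow_mul, ← sub_eq_zero, mul_assoc, ← mul_sub]
    have hle : M (j, k) ≤ P := Finset.le_sup (Finset.mem_univ (j, k))
    rw [← Nat.sub_add_cancel hle, pow_add, mul_assoc, hM (j, k), mul_zero]
  · dsimp only
    have h1 := congrArg (resR (le_inf le_rfl le_rfl : bo (f i) ≤ bo (f i) ⊓ bo (f i))) (hx i)
    simp only [z, resR_resR, resR_pow_mul, ht.one, map_one, mul_one, resR_self] at h1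
    rw [h1, map_pow, resR_algebraMap, pow_add]

variable [IsNoetherianRing A] [IsLocalRing A] [Finite ι] [IsLocalRing (A ⧸ J)] [IsAdicComplete J A]

/-- The sequence of congruences for a value of a section. -/
def Val (J : Ideal A) (u' : ℕ → ∀ i, Γ(Spec A, bo (f i))) (x : ∀ i, Γ(Spec A, bo (f i))) (a : A) : Prop :=
  ∀ n i, algebraMap A Γ(Spec A, bo (f i)) a - x i * u' n i ∈ pw J (n + 1) (bo (f i))

theorem exists_val (L : ∀ n, LayerBasis J n) (hJ : J ≠ ⊤) (hd : (3 : ℕ∞) ≤ LocCoh.depth (A ⧸ J) (A ⧸ J))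
    (hcov : ∀ x : Spec A, x ≠ closedPoint A → ∃ i, x ∈ bo (f i))
    (hle : ∀ i, bo (f i) ≤ FEt.puncturedSpec A) {v v' : ℕ → ∀ i, Γ(Spec A, bo (f i))}
    (hv : ∀ n, NearTriv J f t (n + 1) (v n) (v' n))
    (hcomp : ∀ n i, v' (n + 1) i - v' n i ∈ pw J (n + 1) (bo (f i)))
    (x : ∀ i, Γ(Spec A, bo (f i))) (hx : ∀ i j, resR inf_le_left (x i) * t i j = resR inf_le_right (x j)) :
    ∃ a : A, Val J v' x a := by
  have happ : ∀ n, ∃ a : A, ∀ i, algebraMap A Γ(Spec A, bo (f i)) a - x i * v' n i ∈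
      pw J (n + 1) (bo (f i)) := by
    intro n
    refine exists_approx f L hJ hd hcov hle n.succ_pos (fun i => x i * v' n i) fun i j => ?_
    have h1 := Ideal.mul_mem_left _ (resR inf_le_left (x i * v' n i)) ((hv n).triv i j)
    have h2 := Ideal.mul_mem_left _ (resR inf_le_right (x j * v' n j))
      (resR_mem_pw (inf_le_left : bo (f i) ⊓ bo (f j) ≤ _) ((hv n).inv i))
    refine (congrArg (· ∈ pw J (n + 1) (bo (f i) ⊓ bo (f j))) ?_).mp (sub_mem h2 h1)
    simp only [map_mul, map_sub, map_one, ← hx i j]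
    ring
  choose a ha using happ
  have hac : ∀ n, a (n + 1) - a n ∈ J ^ (n + 1) := fun n =>
    mem_pow_of_mem_pw f L hd hcov _ _ fun i => by
      refine (congrArg (· ∈ pw J (n + 1) (bo (f i))) ?_).mp (add_mem (sub_mem
        (pw_mono (Nat.le_succ _) (ha (n + 1) i)) (ha n i)) (Ideal.mul_mem_left _ (x i) (hcomp n i)))
      rw [map_sub]
      ring
  have hcauchy : ∀ {m n : ℕ}, m ≤ n → a m ≡ a n [SMOD (J ^ m • ⊤ : Submodule A A)] := by
    intro m n hmn
    rw [SModEq.sub_mem, smul_eq_mul, Ideal.mul_top]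
    induction n, hmn using Nat.le_induction with
    | base => simp
    | succ n hmn ih =>
      refine (congrArg (· ∈ J ^ m) ?_).mp (sub_mem ih (Ideal.pow_le_pow_right (by omega) (hac n)))
      ring
  obtain ⟨l, hl⟩ := IsPrecomplete.prec (inferInstance : IsPrecomplete J A) hcauchy
  refine ⟨l, fun n i => ?_⟩
  have h1 := hl (n + 1)
  rw [SModEq.sub_mem, smul_eq_mul, Ideal.mul_top] at h1
  refine (congrArg (· ∈ pw J (n + 1) (bo (f i))) ?_).mp (add_mem
    (sub_mem (pw_mono (Nat.le_succ _) (ha (n + 1) i)) (Ideal.mem_map_of_mem _ h1))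
    (Ideal.mul_mem_left _ (x i) (hcomp n i)))
  rw [map_sub]
  ring

omit [Finite ι] in
theorem val_zero (L : ∀ n, LayerBasis J n) (hd : (3 : ℕ∞) ≤ LocCoh.depth (A ⧸ J) (A ⧸ J))
    (hcov : ∀ x : Spec A, x ≠ closedPoint A → ∃ i, x ∈ bo (f i))
    {v' : ℕ → ∀ i, Γ(Spec A, bo (f i))} {a : A} (ha : Val J v' (fun _ => 0) a) : a = 0 := by
  refine IsHausdorff.haus (inferInstance : IsHausdorff J A) a fun n => ?_
  rw [SModEq.zero, smul_eq_mul, Ideal.mul_top]
  refine Ideal.pow_le_pow_right (Nat.le_succ n) (mem_pow_of_mem_pw f L hd hcov _ _ fun i => ?_)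
  simpa using ha n i

theorem exists_limit (ht : IsTrans f t) (L : ∀ n, LayerBasis J n) (hJ : J ≠ ⊤)
    (hd : (3 : ℕ∞) ≤ LocCoh.depth (A ⧸ J) (A ⧸ J))
    (hcov : ∀ x : Spec A, x ≠ closedPoint A → ∃ i, x ∈ bo (f i))
    (hle : ∀ i, bo (f i) ≤ FEt.puncturedSpec A) {v v' : ℕ → ∀ i, Γ(Spec A, bo (f i))}
    (hv : ∀ n, NearTriv J f t (n + 1) (v n) (v' n))
    (hcomp : ∀ n i, v' (n + 1) i - v' n i ∈ pw J (n + 1) (bo (f i))) :
    ∃ c : ∀ i, Γ(Spec A, bo (f i)),
      (∀ i j, resR inf_le_left (c i) = t i j * resR inf_le_right (c j)) ∧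
        ∀ n i, c i - v' n i ∈ pw J (n + 1) (bo (f i)) := by
  classical
  haveI := Fintype.ofFinite ι
  choose N x hx hxi using exists_section_at (f := f) (t := t) ht
  choose a ha using fun i => exists_val L hJ hd hcov hle hv hcomp (x i) (hx i)
  choose w hw using fun i => (isUnit_algebraMap_of_le (le_refl (bo (f i)))).exists_right_inv
  let c : ∀ i, Γ(Spec A, bo (f i)) := fun i => algebraMap A _ (a i) * w i ^ N i
  have hc : ∀ i, algebraMap A _ (f i) ^ N i * c i = algebraMap A _ (a i) := fun i => by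
    rw [mul_left_comm, ← mul_pow, hw, one_pow, mul_one]
  have key : ∀ i j, algebraMap A Γ(Spec A, bo (f i)) (a j) = x j i * c i := by
    intro i j
    obtain ⟨⟨b, ⟨_, M, rfl⟩⟩, hb⟩ :=
      IsLocalization.surj (M := Submonoid.powers (f i)) (S := Γ(Spec A, bo (f i))) (x j i)
    simp only [map_pow] at hb
    let y : ∀ k, Γ(Spec A, bo (f k)) := fun k =>
      algebraMap A _ (f i ^ (M + N i)) * x j k - algebraMap A _ b * x i k
    have hyi : y i = 0 := by
      simp only [y, hxi, ← hb]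
      rw [pow_add, map_mul, map_pow, map_pow]
      ring
    have hy0 : ∀ k, ∃ P : ℕ, algebraMap A Γ(Spec A, bo (f k)) (f i) ^ P * y k = 0 := by
      intro k
      refine exists_pow_mul_eq_zero (g := f k) rfl (f i) _ ?_
      have hle' : bo (f k) ⊓ bo (f i) ≤ bo (f i) ⊓ bo (f k) := le_inf inf_le_right inf_le_left
      have h1 := congrArg (resR hle') (hx j i k)
      have h2 := congrArg (resR hle') (hx i i k)
      have h3 := congrArg (resR (inf_le_right : bo (f k) ⊓ bo (f i) ≤ _)) hyi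
      simp only [y, map_sub, map_mul, map_zero, resR_resR, resR_algebraMap] at h1 h2 h3
      simp only [y, map_sub, map_mul, resR_algebraMap, ← h1, ← h2]
      rw [← mul_assoc, ← mul_assoc, ← sub_mul, h3, zero_mul]
    choose P hP using hy0
    let Q := Finset.univ.sup P
    have hy : ∀ k, algebraMap A Γ(Spec A, bo (f k)) (f i) ^ Q * y k = 0 := fun k => by
      obtain ⟨d, hd'⟩ := Nat.exists_eq_add_of_le' (Finset.le_sup (Finset.mem_univ k) : P k ≤ Q)
      rw [show Q = d + P k from hd', pow_add, mul_assoc, hP, mul_zero]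
    have h0 : f i ^ Q * (f i ^ (M + N i) * a j - b * a i) = 0 := val_zero L hd hcov (v' := v') fun n k => by
      have h1 := sub_mem (Ideal.mul_mem_left _ (algebraMap A _ (f i ^ (M + N i))) (ha j n k))
        (Ideal.mul_mem_left _ (algebraMap A _ b) (ha i n k))
      refine (congrArg (· ∈ pw J (n + 1) (bo (f k))) ?_).mp
        (Ideal.mul_mem_left _ (algebraMap A Γ(Spec A, bo (f k)) (f i) ^ Q) h1)
      have h2 := hy k
      simp only [y] at h2
      simp only [map_mul, map_sub, map_pow, zero_mul, sub_zero] at h2 ⊢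
      linear_combination (-(v' n k)) * h2
    have hu : IsUnit (algebraMap A Γ(Spec A, bo (f i)) (f i)) := isUnit_algebraMap_of_le le_rfl
    have h1 := congrArg (algebraMap A Γ(Spec A, bo (f i))) h0
    rw [map_mul, map_zero, map_pow, (hu.pow Q).mul_right_eq_zero, map_sub, map_mul, map_mul, map_pow,
      sub_eq_zero, ← hb, ← hc i, pow_add] at h1
    refine ((hu.pow M).mul (hu.pow (N i))).mul_left_cancel (h1.trans ?_)
    ring
  refine ⟨c, fun i j => ?_, fun n i => ?_⟩
  · have h1 := congrArg (resR (inf_le_left : bo (f i) ⊓ bo (f j) ≤ _)) (key i j)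
    have h2 := congrArg (resR (inf_le_right : bo (f i) ⊓ bo (f j) ≤ _)) (hc j)
    have h3 := hx j i j
    rw [hxi j] at h3
    rw [resR_pow_mul, resR_algebraMap] at h2
    rw [map_mul, resR_algebraMap, ← h2] at h1
    rw [map_pow, resR_algebraMap] at h3
    refine ((isUnit_algebraMap_of_le (inf_le_right : bo (f i) ⊓ bo (f j) ≤ bo (f j))).pow (N j)).mul_left_cancel ?_
    calc _ = resR inf_le_left (x j i) * t i j * resR inf_le_left (c i) := by rw [h3]
      _ = t i j * (resR inf_le_left (x j i) * resR inf_le_left (c i)) := by ring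
      _ = _ := by rw [← h1]; ring
  · have h1 := ha i n i
    rw [hxi i, ← hc i, ← mul_sub] at h1
    exact (Ideal.unit_mul_mem_iff_mem _ ((isUnit_algebraMap_of_le (le_refl (bo (f i)))).pow (N i))).1 h1

end Groth.Agent.Para81
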