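import Groth.Agent.Para81.Spread
import Groth.Agent.ParaFX.Functions

/-!
# Extension of invertible modules near a point with parafactorial local ring
-/

set_option autoImplicit false
set_option linter.style.haveILetI false

universe u

open CategoryTheory AlgebraicGeometry TopologicalSpace Opposite IsLocalRing

namespace Groth.Agent.Para81

open Groth.Agent.AModX Groth.Agent.InvX

theorem exists_finite_cover {A : CommRingCat.{u}} [IsNoetherianRing A] (W : (Spec A).Opens)
    (P : A → Prop) (h : ∀ x ∈ W, ∃ f : A, x ∈ bo f ∧ bo f ≤ W ∧ P f) :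
    ∃ (ι : Type u) (_ : Finite ι) (f : ι → A), (∀ i, bo (f i) ≤ W) ∧ (∀ i, P (f i)) ∧
      ∀ x ∈ W, ∃ i, x ∈ bo (f i) := by
  classical
  choose f hxf hfW hf using fun x : W => h x.1 x.2
  obtain ⟨T, hT⟩ := (NoetherianSpace.isCompact (W : Set (Spec A))).elim_finite_subcover
    (fun x : W => ((bo (f x) : (Spec A).Opens) : Set (Spec A)))
    (fun x => (bo (f x)).isOpen) (fun x hx => Set.mem_iUnion.2 ⟨⟨x, hx⟩, hxf ⟨x, hx⟩⟩)
  refine ⟨T, inferInstance, fun i => f i.1, fun i => hfW _, fun i => hf _, fun x hx => ?_⟩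
  obtain ⟨i, hi, hxi⟩ := Set.mem_iUnion₂.1 (hT hx)
  exact ⟨⟨i, hi⟩, hxi⟩

theorem preimage_eq_punctured {A B : CommRingCat.{u}} [Algebra A B] [IsLocalRing B] (p : Ideal A)
    [hp : p.IsPrime] [IsLocalization.AtPrime B p] (W : (Spec A).Opens)
    (hpW : (⟨p, hp⟩ : PrimeSpectrum A) ∉ W)
    (hgen : ∀ q : PrimeSpectrum A, q.asIdeal < p → q ∈ W) :
    spMap A B ⁻¹ᵁ W = FEt.puncturedSpec B := by
  have hc : spMap A B (closedPoint B) = (⟨p, hp⟩ : PrimeSpectrum A) :=
    PrimeSpectrum.ext (IsLocalization.AtPrime.under_maximalIdeal B p)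
  ext x
  constructor
  · intro hx hx'
    rw [show x = closedPoint B from hx'] at hx
    exact hpW (hc ▸ hx)
  · intro hx
    refine hgen _ (lt_of_le_of_ne ?_ fun he => hx ?_)
    · have := congrArg PrimeSpectrum.asIdeal hc
      exact (Ideal.comap_mono (IsLocalRing.le_maximalIdeal x.isPrime.ne_top)).trans
        (IsLocalization.AtPrime.under_maximalIdeal B p).le
    · exact PrimeSpectrum.localization_comap_injective B p.primeCompl
        (PrimeSpectrum.ext (he.trans (IsLocalization.AtPrime.under_maximalIdeal B p).symm))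

/-- A module with frames on `W` has a frame on the trace of a neighbourhood of `p`. -/
theorem frame_near_of_parafactorial {A B : CommRingCat.{u}} [IsNoetherianRing A] [Algebra A B]
    [IsLocalRing B] (p : Ideal A) [hp : p.IsPrime] [IsLocalization.AtPrime B p]
    (hB : ParaF.IsParafactorialLocalRing B) (M : (Spec A).Modules) (W : (Spec A).Opens)
    (hpW : (⟨p, hp⟩ : PrimeSpectrum A) ∉ W) (hgen : ∀ q : PrimeSpectrum A, q.asIdeal < p → q ∈ W)
    (hM : ∀ x ∈ W, ∃ U : (Spec A).Opens, x ∈ U ∧ ∃ e : Γ(M, U), IsFrame e) :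
    ∃ s : A, s ∉ p ∧ ∃ m : Γ(M, W ⊓ bo s), IsFrame m := by
  obtain ⟨ι, _, f, hfW, hf, hcov⟩ := exists_finite_cover W
    (fun f => ∃ e : Γ(M, bo f), IsFrame e) (fun x hx => by
      obtain ⟨U, hxU, e, he⟩ := hM x hx
      obtain ⟨_, ⟨_, ⟨f, rfl⟩, rfl⟩, hxf, hfU⟩ := PrimeSpectrum.isBasis_basic_opens.exists_subset_of_mem_open
        (show x ∈ ((W ⊓ U : (Spec A).Opens) : Set (Spec A)) from ⟨hx, hxU⟩) (W ⊓ U).isOpen
      exact ⟨f, hxf, fun y hy => (hfU hy).1, _, he.res (fun y hy => (hfU hy).2)⟩)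
  choose e he using hf
  let P := (Scheme.Modules.pullback (spMap A B)).obj M
  have hW := preimage_eq_punctured (B := B) p W hpW hgen
  let U : (Spec B).Opens := FEt.puncturedSpec B
  have hinv : PicF.IsInvertible (P.restrict U.ι) := isInvertible_restrict_of_frames U fun x hx => by
    rw [show U = spMap A B ⁻¹ᵁ W from hW.symm] at hx
    obtain ⟨i, hi⟩ := hcov _ hx
    exact ⟨spMap A B ⁻¹ᵁ bo (f i), hi, _, isFrame_pullElt _ (he i)⟩
  obtain ⟨σ, hσ⟩ := exists_frame_of_iso U
    (((ParaFX.isParafactorialLocalRing_iff B).1 hB).2 _ hinv)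
  obtain ⟨s, hs, m, hm⟩ := frame_spread (B := B) p.primeCompl M W f hfW hcov e he _
    (hσ.res (show spMap A B ⁻¹ᵁ W ≤ U from hW.le))
  exact ⟨s, hs, m, hm⟩

end Groth.Agent.Para81
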