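import Groth.Agent.Para81.FlatDescend
import Groth.Agent.Para81.Near
import Mathlib.RingTheory.KrullDimension.Field
import Mathlib.RingTheory.Flat.FaithfullyFlat.Algebra

/-!
# Parafactoriality descends along flat local homomorphisms with zero dimensional fibre
-/

set_option autoImplicit false
set_option linter.style.haveILetI false

universe u

open CategoryTheory AlgebraicGeometry TopologicalSpace Opposite IsLocalRing

namespace Groth.Agent.Para81

open Groth.Agent.AModX Groth.Agent.InvX

theorem ΓSpec_algebraMap (R : CommRingCat.{u}) (U : (Spec R).Opens) (a : R) :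
    algebraMap R Γ(Spec R, U) a = resR (le_top : U ≤ ⊤) ((Scheme.ΓSpecIso R).inv a) := rfl

theorem bijective_algebraMap_iff (R : CommRingCat.{u}) (U : (Spec R).Opens) :
    Function.Bijective (algebraMap R Γ(Spec R, U)) ↔
      Function.Bijective ((Spec R).presheaf.map (homOfLE (le_top : U ≤ ⊤)).op) := by
  have h : Function.Bijective (Scheme.ΓSpecIso R).inv :=
    ConcreteCategory.bijective_of_isIso _
  exact Function.Bijective.of_comp_iff (resR (le_top : U ≤ ⊤)) h

theorem preimage_punctured_of_fibre {A B : CommRingCat.{u}} [IsLocalRing A] [IsLocalRing B]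
    [Algebra A B] [IsLocalHom (algebraMap A B)]
    (hfib : ringKrullDim (B ⧸ (maximalIdeal A).map (algebraMap A B)) = 0) :
    spMap A B ⁻¹ᵁ FEt.puncturedSpec A = FEt.puncturedSpec B := by
  ext x
  constructor
  · intro hx hx'
    exact hx ((congrArg (spMap A B) (show x = closedPoint B from hx')).trans
      (comap_closedPoint (algebraMap A B)))
  · intro hx hx'
    have hle : (maximalIdeal A).map (algebraMap A B) ≤ x.asIdeal := Ideal.map_le_iff_le_comap.2
      (congrArg PrimeSpectrum.asIdeal (show spMap A B x = closedPoint A from hx')).ge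
    haveI : Ring.KrullDimLE 0 (B ⧸ (maximalIdeal A).map (algebraMap A B)) :=
      Ring.krullDimLE_iff.2 hfib.le
    haveI := x.isPrime
    have hp : (x.asIdeal.map (Ideal.Quotient.mk ((maximalIdeal A).map (algebraMap A B)))).IsPrime :=
      Ideal.map_isPrime_of_surjective Ideal.Quotient.mk_surjective (by rwa [Ideal.mk_ker])
    have hmax := Ideal.IsPrime.isMaximal' (R := B ⧸ (maximalIdeal A).map (algebraMap A B)) hp
    haveI := hmax
    have := Ideal.comap_isMaximal_of_surjective _ Ideal.Quotient.mk_surjective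
      (K := x.asIdeal.map (Ideal.Quotient.mk ((maximalIdeal A).map (algebraMap A B))))
    rw [Ideal.comap_map_of_surjective _ Ideal.Quotient.mk_surjective, ← RingHom.ker_eq_comap_bot,
      Ideal.mk_ker, sup_eq_left.2 hle] at this
    exact hx (PrimeSpectrum.ext (IsLocalRing.eq_maximalIdeal this))

theorem exists_frame_pushforward {X Y : Scheme.{u}} (j : Y ⟶ X) [IsOpenImmersion j] {L : Y.Modules}
    (hL : PicF.IsInvertible L) (x : X) (hx : x ∈ j.opensRange) :
    ∃ V : X.Opens, x ∈ V ∧ ∃ e : Γ((Scheme.Modules.pushforward j).obj L, V), IsFrame e := by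
  obtain ⟨y, rfl⟩ := hx
  obtain ⟨O, hyO, e, he⟩ := InvX.exists_frame hL y
  exact ⟨j ''ᵁ O, ⟨y, hyO, rfl⟩, _,
    InvUfdLib.isFrame_of_restrict j (InvX.IsFrame.map_iso (ParaFX.restrictPushforward j L).symm he)⟩

theorem nonempty_iso_of_frame_pushforward {X : Scheme.{u}} (U : X.Opens) {L : (U : Scheme.{u}).Modules}
    (h : ∃ s : Γ((Scheme.Modules.pushforward U.ι).obj L, U), IsFrame s) :
    Nonempty (L ≅ Coh.structureModule (U : Scheme.{u})) :=
  let ⟨i⟩ := nonempty_iso_of_frame_opens U h; ⟨(ParaFX.restrictPushforward U.ι L).symm ≪≫ i⟩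

/-- Triviality of the Picard group and constancy of functions descend along a faithfully flat map. -/
theorem trivial_descend {A B : CommRingCat.{u}} [IsNoetherianRing A] [IsLocalRing B] [Algebra A B]
    [Module.FaithfullyFlat A B] (U : (Spec A).Opens)
    (hfun : Function.Bijective (algebraMap B Γ(Spec B, spMap A B ⁻¹ᵁ U)))
    (hpic : ParaF.PicTrivial (spMap A B ⁻¹ᵁ U : Scheme.{u})) :
    Function.Bijective (algebraMap A Γ(Spec A, U)) ∧ ParaF.PicTrivial (U : Scheme.{u}) := by
  refine ⟨?_, fun L hL => ?_⟩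
  · obtain ⟨ι, _, f, hfU, -, hcov⟩ := exists_finite_cover U (fun _ => True) fun x hx => by
      obtain ⟨_, ⟨_, ⟨f, rfl⟩, rfl⟩, hxf, hfU⟩ :=
        PrimeSpectrum.isBasis_basic_opens.exists_subset_of_mem_open
          (show x ∈ (U : Set (Spec A)) from hx) U.isOpen
      exact ⟨f, hxf, hfU, trivial⟩
    exact fn_descend f U hfU hcov hfun
  let M : (Spec A).Modules := (Scheme.Modules.pushforward U.ι).obj L
  have hMU : ∀ x ∈ U, ∃ V : (Spec A).Opens, x ∈ V ∧ ∃ e : Γ(M, V), IsFrame e := fun x hx =>
    exists_frame_pushforward U.ι hL x (by rw [Scheme.Opens.opensRange_ι]; exact hx)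
  obtain ⟨ι, _, f, hfU, hf, hcov⟩ := exists_finite_cover U
    (fun f => ∃ e : Γ(M, bo f), IsFrame e) fun x hx => by
      obtain ⟨V, hxV, e, he⟩ := hMU x hx
      obtain ⟨_, ⟨_, ⟨f, rfl⟩, rfl⟩, hxf, hfV⟩ :=
        PrimeSpectrum.isBasis_basic_opens.exists_subset_of_mem_open
          (show x ∈ ((U ⊓ V : (Spec A).Opens) : Set (Spec A)) from ⟨hx, hxV⟩) (U ⊓ V).isOpen
      exact ⟨f, hxf, fun y hy => (hfV hy).1, _, he.res fun y hy => (hfV hy).2⟩
  choose e he using hf
  have hinv : PicF.IsInvertible (((Scheme.Modules.pullback (spMap A B)).obj M).restrict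
      (spMap A B ⁻¹ᵁ U).ι) :=
    isInvertible_restrict_of_frames _ fun x hx => by
      obtain ⟨i, hi⟩ := hcov _ hx
      exact ⟨spMap A B ⁻¹ᵁ bo (f i), hi, _, isFrame_pullElt _ (he i)⟩
  obtain ⟨σ, hσ⟩ := exists_frame_of_iso (spMap A B ⁻¹ᵁ U) (hpic _ hinv)
  obtain ⟨m, hm⟩ := frame_descend f M U hfU hcov
    (fun x _ => PrimeSpectrum.comap_surjective_of_faithfullyFlat x) hfun.2 e he _ hσ
  exact nonempty_iso_of_frame_pushforward U ⟨m, hm⟩

theorem trivial_descend_local {A B : CommRingCat.{u}} [IsNoetherianRing A] [IsLocalRing A] [IsLocalRing B]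
    [Algebra A B] [IsLocalHom (algebraMap A B)] [Module.FaithfullyFlat A B]
    (hfib : ringKrullDim (B ⧸ (maximalIdeal A).map (algebraMap A B)) = 0)
    (hb : Function.Bijective (algebraMap B Γ(Spec B, FEt.puncturedSpec B)))
    (hpic : ParaF.PicTrivial (FEt.puncturedSpec B : Scheme.{u})) :
    Function.Bijective (algebraMap A Γ(Spec A, FEt.puncturedSpec A)) ∧
      ParaF.PicTrivial (FEt.puncturedSpec A : Scheme.{u}) := by
  have h := trivial_descend (A := A) (B := B) (FEt.puncturedSpec A)
  rw [preimage_punctured_of_fibre hfib] at h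
  exact h hb hpic

/-- Descent of parafactoriality. -/
theorem parafactorial_of_flat {A B : Type u} [CommRing A] [CommRing B] [IsNoetherianRing A] [IsLocalRing A]
    [IsLocalRing B] [Algebra A B] [IsLocalHom (algebraMap A B)] [Module.Flat A B]
    (hfib : ringKrullDim (B ⧸ (maximalIdeal A).map (algebraMap A B)) = 0)
    (hB : ParaF.IsParafactorialLocalRing B) : ParaF.IsParafactorialLocalRing A := by
  haveI : Module.FaithfullyFlat A B := Module.FaithfullyFlat.of_flat_of_isLocalHom
  obtain ⟨hb, hpic⟩ := (ParaFX.isParafactorialLocalRing_iff B).1 hB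
  obtain ⟨h1, h2⟩ := trivial_descend_local (A := CommRingCat.of A) (B := CommRingCat.of B) hfib
    ((bijective_algebraMap_iff (CommRingCat.of B) _).2 hb) hpic
  exact (ParaFX.isParafactorialLocalRing_iff A).2 ⟨(bijective_algebraMap_iff (CommRingCat.of A) _).1 h1, h2⟩

end Groth.Agent.Para81
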