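import Groth.Agent.Para81.FlatFam
import Groth.Agent.Para81.FrameGlue

/-!
# Descent of functions and frames along flat maps of spectra
-/

set_option autoImplicit false
set_option linter.style.haveILetI false

universe u

open CategoryTheory AlgebraicGeometry TopologicalSpace Opposite
open scoped TensorProduct

namespace Groth.Agent.Para81

open Groth.Agent.AModX Groth.Agent.InvX

theorem glueR {X : Scheme.{u}} {ι : Type u} (U : ι → X.Opens) {V : X.Opens} (hle : ∀ i, U i ≤ V)
    (hcov : ∀ x ∈ V, ∃ i, x ∈ U i) (y : ∀ i, Γ(X, U i))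
    (h : ∀ i j, resR inf_le_left (y i) = resR (inf_le_right : U i ⊓ U j ≤ U j) (y j)) :
    ∃ g : Γ(X, V), ∀ i, resR (hle i) g = y i :=
  (X.sheaf.existsUnique_gluing' U V (fun i => homOfLE (hle i))
    (fun x hx => Opens.mem_iSup.2 (hcov x hx)) y h).exists

theorem eqR_of_cover {X : Scheme.{u}} {ι : Type u} (U : ι → X.Opens) {V : X.Opens} (hle : ∀ i, U i ≤ V)
    (hcov : ∀ x ∈ V, ∃ i, x ∈ U i) (a b : Γ(X, V))
    (h : ∀ i, resR (hle i) a = resR (hle i) b) : a = b :=
  X.sheaf.eq_of_locally_eq' U V (fun i => homOfLE (hle i)) (fun x hx => Opens.mem_iSup.2 (hcov x hx)) a b h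

variable {A B : CommRingCat.{u}} [Algebra A B] {ι : Type u} (f : ι → A)
  (t : ∀ i j : ι, Γ(Spec A, bo (f i) ⊓ bo (f j)))

theorem compat_famMap (z : B ⊗[A] LinearMap.ker (delta f t)) (i j : ι) :
    resR ((spMap A B).preimage_mono inf_le_left)
        (famMap f ((LinearMap.ker (delta f t)).subtype.lTensor B z) i) * (spMap A B).app _ (t i j) =
      resR ((spMap A B).preimage_mono inf_le_right)
        (famMap f ((LinearMap.ker (delta f t)).subtype.lTensor B z) j) := by
  rw [← sub_eq_zero, ← tmap_delta, ← LinearMap.lTensor_comp_apply, ← LinearMap.lTensor_comp_apply,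
    LinearMap.comp_assoc, LinearMap.comp_ker_subtype]
  simp

theorem famMap_sum {κ : Type*} (S : Finset κ) (b : κ → B) (x : κ → LinearMap.ker (delta f t)) (i : ι) :
    famMap f ((LinearMap.ker (delta f t)).subtype.lTensor B (∑ k ∈ S, b k ⊗ₜ[A] x k)) i =
      ∑ k ∈ S, algebraMap B Γ(Spec B, spMap A B ⁻¹ᵁ bo (f i)) (b k) *
        (spMap A B).app (bo (f i)) ((x k).1 i) := by
  simp only [famMap, map_sum, LinearMap.lTensor_tmul]
  rfl

/-- Sections are constants when they are so after a faithfully flat extension. -/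
theorem fn_descend [Finite ι] [Module.FaithfullyFlat A B] (W : (Spec A).Opens)
    (hfW : ∀ i, bo (f i) ≤ W) (hcov : ∀ x ∈ W, ∃ i, x ∈ bo (f i))
    (h : Function.Bijective (algebraMap B Γ(Spec B, spMap A B ⁻¹ᵁ W))) :
    Function.Bijective (algebraMap A Γ(Spec A, W)) := by
  let t : ∀ i j : ι, Γ(Spec A, bo (f i) ⊓ bo (f j)) := fun _ _ => 1
  let K := LinearMap.ker (delta f t)
  let π := spMap A B
  refine ⟨(injective_iff_map_eq_zero _).2 fun a ha => ?_, fun y => ?_⟩
  · refine FaithfulSMul.algebraMap_injective A B (((h.1 ?_)).trans (map_zero _).symm)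
    exact (app_algebraMap (CommRingCat.ofHom (algebraMap A B)) W a).symm.trans
      ((congrArg (fun x => (spMap A B).app W x) ha).trans ((map_zero _).trans (map_zero _).symm))
  let φ : A →ₗ[A] K := LinearMap.codRestrict K
    (LinearMap.pi fun i => Algebra.linearMap A Γ(Spec A, bo (f i)))
    fun a => (mem_ker_delta f t _).2 fun i j => by
      show resR _ (algebraMap A _ a) * 1 = resR _ (algebraMap A _ a)
      rw [mul_one, resR_algebraMap, resR_algebraMap]
  have hφ : Function.Surjective φ := by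
    rw [← Module.FaithfullyFlat.lTensor_surjective_iff_surjective A B]
    intro z
    obtain ⟨g, hg⟩ := glueR (fun i => π ⁻¹ᵁ bo (f i)) (V := π ⁻¹ᵁ W) (fun i => π.preimage_mono (hfW i))
      (fun x hx => hcov _ hx) (famMap f (K.subtype.lTensor B z))
      (fun i j => (mul_one _).symm.trans ((congrArg (_ * ·) (map_one _).symm).trans (compat_famMap f t z i j)))
    obtain ⟨β, rfl⟩ := h.2 g
    refine ⟨β ⊗ₜ[A] 1, sub_eq_zero.1 (famMap_ker_injective f t (funext fun i => ?_))⟩
    have e1 : famMap f (K.subtype.lTensor B (β ⊗ₜ[A] φ 1)) i = famMap f (K.subtype.lTensor B z) i := by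
      rw [← hg i, LinearMap.lTensor_tmul]
      show algebraMap B Γ(Spec B, π ⁻¹ᵁ bo (f i)) β * π.app (bo (f i)) (algebraMap A _ 1) = _
      rw [map_one, map_one, mul_one, resR_algebraMap]
    rw [LinearMap.lTensor_tmul, map_sub]
    show tmap _ _ = 0
    rw [map_sub, map_sub, sub_eq_zero]
    exact e1
  obtain ⟨a, ha⟩ := hφ ⟨fun i => resR (hfW i) y, (mem_ker_delta f t _).2 fun i j => by
    simp [t, resR_resR]⟩
  refine ⟨a, eqR_of_cover _ hfW hcov _ _ fun i => ?_⟩
  rw [resR_algebraMap]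
  exact congrFun (congrArg Subtype.val ha) i

/-- A frame descends along a flat map whose source is the spectrum of a local ring. -/
theorem frame_descend [IsLocalRing B] [Module.Flat A B] [Finite ι] (M : (Spec A).Modules)
    (W : (Spec A).Opens) (hfW : ∀ i, bo (f i) ≤ W) (hcov : ∀ x ∈ W, ∃ i, x ∈ bo (f i))
    (hsurj : ∀ x ∈ W, ∃ y : Spec B, spMap A B y = x)
    (h : Function.Surjective (algebraMap B Γ(Spec B, spMap A B ⁻¹ᵁ W)))
    (e : ∀ i, Γ(M, bo (f i))) (he : ∀ i, IsFrame (e i))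
    (σ : Γ((Scheme.Modules.pullback (spMap A B)).obj M, spMap A B ⁻¹ᵁ W)) (hσ : IsFrame σ) :
    ∃ m : Γ(M, W), IsFrame m := by
  classical
  let π := spMap A B
  let P := (Scheme.Modules.pullback π).obj M
  by_cases hW : W = ⊥
  · subst hW
    exact exists_frame_glue (ι := PEmpty) PEmpty.elim ⊥ (fun i => i.elim) (fun x hx => hx.elim)
      (fun i => i.elim) (fun i => i.elim) (fun i => i.elim) (fun i => i.elim) (fun i => i.elim)
  have hr : ∀ i, ∃ r : Γ(Spec B, π ⁻¹ᵁ bo (f i)), IsUnit r ∧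
      res P (π.preimage_mono (hfW i)) σ = r • pullElt π (e i) :=
    fun i => InvUfdLib.exists_unit_of_frames (hσ.res _) (isFrame_pullElt π (he i))
  choose r hr hre using hr
  have ht : ∀ i j, ∃ t : Γ(Spec A, bo (f i) ⊓ bo (f j)),
      res M inf_le_left (e i) = t • res M inf_le_right (e j) :=
    fun i j => (he j).exists_coord inf_le_right (res M inf_le_left (e i))
  choose t ht using ht
  obtain ⟨z, hz⟩ := exists_of_compatible f t r fun i j => by
    have ht' := congrArg (pullElt π) (ht i j)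
    rw [pullElt_res, pullElt_smul, pullElt_res] at ht'
    have hi : π ⁻¹ᵁ (bo (f i) ⊓ bo (f j)) ≤ π ⁻¹ᵁ bo (f i) := π.preimage_mono inf_le_left
    have hj : π ⁻¹ᵁ (bo (f i) ⊓ bo (f j)) ≤ π ⁻¹ᵁ bo (f j) := π.preimage_mono inf_le_right
    have h1 := congrArg (res P hi) (hre i)
    have h2 := congrArg (res P hj) (hre j)
    rw [res_smul, res_res] at h1 h2
    exact coord_mul (isFrame_pullElt π (he j)) h1 h2 ht'
  obtain ⟨S, rfl⟩ := TensorProduct.exists_finset z
  let x : B × LinearMap.ker (delta f t) → ∀ i, Γ(Spec A, bo (f i)) := fun k => k.2.1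
  have hm : ∀ k : B × LinearMap.ker (delta f t), ∃ m : Γ(M, W), ∀ i, res M (hfW i) m = x k i • e i :=
    fun k => (existsUnique_glue (M := M) (V := W) (fun i => bo (f i)) hfW hcov (fun i => x k i • e i)
      fun i j => by
        rw [res_smul, res_smul, ht, smul_smul, (mem_ker_delta f t _).1 k.2.2 i j]).exists
  choose m hm using hm
  have hc : ∀ k, ∃ β : B, pullElt π (m k) = algebraMap B Γ(Spec B, π ⁻¹ᵁ W) β • σ := fun k => by
    obtain ⟨c, hc⟩ := hσ.exists_coord le_rfl (pullElt π (m k))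
    obtain ⟨β, rfl⟩ := h c
    exact ⟨β, by rwa [res_self] at hc⟩
  choose β hβ using hc
  have hx : ∀ k i, π.app (bo (f i)) (x k i) = algebraMap B Γ(Spec B, π ⁻¹ᵁ bo (f i)) (β k) * r i := by
    intro k i
    refine (isFrame_pullElt π (he i)).coord_unique le_rfl ?_
    simp only [res_self]
    rw [← pullElt_smul, ← hm, pullElt_res, hβ, res_smul, hre, smul_smul, resR_algebraMap]
  have hsum : ∀ i, algebraMap B Γ(Spec B, π ⁻¹ᵁ bo (f i)) (∑ k ∈ S, k.1 * β k) = 1 := fun i => by
    refine (hr i).mul_left_inj.1 ?_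
    rw [one_mul, map_sum, Finset.sum_mul]
    conv_rhs => rw [← congrFun hz i, famMap_sum]
    exact Finset.sum_congr rfl fun k _ => by rw [map_mul, mul_assoc, ← hx]
  by_cases hu : ∃ k ∈ S, IsUnit (β k)
  swap
  · obtain ⟨x₀, hx₀⟩ : ∃ x₀, x₀ ∈ W := Set.nonempty_iff_ne_empty.2 fun he => hW (Opens.ext he)
    obtain ⟨i, hi⟩ := hcov x₀ hx₀
    obtain ⟨y, hy⟩ := hsurj x₀ hx₀
    have hyi : y ∈ π ⁻¹ᵁ bo (f i) := by show π y ∈ bo (f i); rw [hy]; exact hi
    have hmax : ∑ k ∈ S, k.1 * β k ∈ IsLocalRing.maximalIdeal B :=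
      Submodule.sum_mem _ fun k hk => Ideal.mul_mem_left _ _ fun hk' => hu ⟨k, hk, hk'⟩
    have hu1 : IsUnit (1 - ∑ k ∈ S, k.1 * β k) :=
      IsLocalRing.isUnit_one_sub_self_of_mem_nonunits _ hmax
    have h1 := hu1.map (algebraMap B Γ(Spec B, π ⁻¹ᵁ bo (f i)))
    rw [map_sub, map_one, hsum, sub_self] at h1
    have h2 := h1.map ((Spec B).presheaf.germ _ y hyi).hom
    rw [map_zero] at h2
    exact absurd h2 not_isUnit_zero
  obtain ⟨k, -, hk⟩ := hu
  refine ⟨m k, InvUfdLib.isFrame_of_cover (fun i => bo (f i)) hfW hcov (m k) fun i => ?_⟩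
  rw [hm]
  refine (he i).isUnit_smul ?_
  have hux : IsUnit (π.app (bo (f i)) (x k i)) := hx k i ▸ (hk.map _).mul (hr i)
  rw [show x k i = resR le_rfl (x k i) from (resR_self _).symm]
  refine isUnit_resR le_rfl _ fun p hp => ?_
  obtain ⟨y, hy⟩ := hsurj p (hfW i hp)
  have hy' : y ∈ π ⁻¹ᵁ bo (f i) := by show π y ∈ bo (f i); rw [hy]; exact hp
  rw [← Scheme.basicOpen_of_isUnit _ hux, ← Scheme.preimage_basicOpen] at hy'
  exact hy ▸ hy'

end Groth.Agent.Para81
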