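import Groth.Agent.Para81.LocDescend
import Mathlib.LinearAlgebra.TensorProduct.Pi
import Mathlib.RingTheory.Flat.FaithfullyFlat.Basic

/-!
# Compatible families of sections and flat base change
-/

set_option autoImplicit false
set_option linter.style.haveILetI false

universe u

open CategoryTheory AlgebraicGeometry TopologicalSpace Opposite
open scoped TensorProduct

namespace Groth.Agent.Para81

open Groth.Agent.AModX

variable {A B : CommRingCat.{u}} [Algebra A B]

/-- Restriction as a morphism of algebras. -/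
noncomputable def resA {U V : (Spec A).Opens} (h : V ≤ U) : Γ(Spec A, U) →ₐ[A] Γ(Spec A, V) :=
  { resR h with commutes' := fun a => resR_algebraMap h a }

@[simp] theorem resA_apply {U V : (Spec A).Opens} (h : V ≤ U) (x : Γ(Spec A, U)) :
    resA h x = resR h x := rfl

/-- Sections tensored with `B` mapped to sections over the preimage. -/
noncomputable def tmap (U : (Spec A).Opens) : B ⊗[A] Γ(Spec A, U) →+ Γ(Spec B, spMap A B ⁻¹ᵁ U) :=
  TensorProduct.liftAddHom
    (AddMonoidHom.mk' (fun b => AddMonoidHom.mk'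
        (fun p => algebraMap B Γ(Spec B, spMap A B ⁻¹ᵁ U) b * (spMap A B).app U p)
        (fun p q => by rw [map_add, mul_add]))
      (fun b c => by ext p; simp [add_mul]))
    (fun a b p => by
      simp only [AddMonoidHom.mk'_apply, Algebra.smul_def, map_mul, app_algebraMap]
      show algebraMap B _ (algebraMap A B a) * algebraMap B _ b * _ =
        algebraMap B _ b * (algebraMap B _ (algebraMap A B a) * _)
      ring)

theorem tmap_tmul (U : (Spec A).Opens) (b : B) (p : Γ(Spec A, U)) :
    tmap U (b ⊗ₜ[A] p) = algebraMap B Γ(Spec B, spMap A B ⁻¹ᵁ U) b * (spMap A B).app U p := rfl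

theorem tmap_res {U V : (Spec A).Opens} (h : V ≤ U) (z : B ⊗[A] Γ(Spec A, U)) :
    tmap V ((resA h).toLinearMap.lTensor B z) = resR ((spMap A B).preimage_mono h) (tmap U z) := by
  induction z using TensorProduct.induction_on with
  | zero => simp
  | tmul b p =>
    rw [LinearMap.lTensor_tmul, tmap_tmul, tmap_tmul, AlgHom.toLinearMap_apply, resA_apply, map_mul,
      resR_algebraMap, app_resR]
  | add a b ha hb => simp [ha, hb]

theorem tmap_mul {U : (Spec A).Opens} (t : Γ(Spec A, U)) (z : B ⊗[A] Γ(Spec A, U)) :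
    tmap U ((LinearMap.mulRight A t).lTensor B z) = tmap U z * (spMap A B).app U t := by
  induction z using TensorProduct.induction_on with
  | zero => simp
  | tmul b p =>
    rw [LinearMap.lTensor_tmul, tmap_tmul, tmap_tmul, LinearMap.mulRight_apply, map_mul, mul_assoc]
  | add a b ha hb => simp [ha, hb, add_mul]

theorem exists_tmul_pow {U : (Spec A).Opens} {g : A} (hU : U = bo g)
    (z : B ⊗[A] Γ(Spec A, U)) (v : Γ(Spec A, U)) (hv : algebraMap A Γ(Spec A, U) g * v = 1) :
    ∃ (b : B) (n : ℕ), z = b ⊗ₜ[A] (v ^ n) := by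
  subst hU
  induction z using TensorProduct.induction_on with
  | zero => exact ⟨0, 0, by simp⟩
  | tmul b p =>
    obtain ⟨⟨a, ⟨_, n, rfl⟩⟩, ha⟩ :=
      IsLocalization.surj (M := Submonoid.powers g) (S := Γ(Spec A, bo g)) p
    simp only at ha
    refine ⟨a • b, n, ?_⟩
    rw [TensorProduct.smul_tmul, Algebra.smul_def, ← ha, map_pow, mul_assoc, ← mul_pow, hv, one_pow, mul_one]
  | add x y hx hy =>
    obtain ⟨b, n, rfl⟩ := hx
    obtain ⟨c, m, rfl⟩ := hy
    refine ⟨g ^ m • b + g ^ n • c, n + m, ?_⟩
    have key : ∀ k l : ℕ, (g ^ l • v ^ (k + l) : Γ(Spec A, bo g)) = v ^ k := fun k l => by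
      rw [Algebra.smul_def, map_pow, pow_add, mul_left_comm, ← mul_pow, hv, one_pow, mul_one]
    rw [TensorProduct.add_tmul, TensorProduct.smul_tmul, TensorProduct.smul_tmul, key, add_comm n m, key]

theorem tmap_injective {U : (Spec A).Opens} {g : A} (hU : U = bo g) :
    Function.Injective (tmap (B := B) U) := by
  subst hU
  obtain ⟨v, hv⟩ := (isUnit_algebraMap_of_le (le_refl (bo g))).exists_right_inv
  rw [injective_iff_map_eq_zero]
  intro z hz
  obtain ⟨b, n, rfl⟩ := exists_tmul_pow rfl z v hv
  rw [tmap_tmul] at hz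
  have hu : IsUnit ((spMap A B).app (bo g) (v ^ n)) :=
    ((IsUnit.of_mul_eq_one_right _ hv).pow n).map _
  have h0 : algebraMap B Γ(Spec B, bo (algebraMap A B g)) b = 0 := hu.mul_left_eq_zero.1 hz
  obtain ⟨⟨_, k, rfl⟩, hk⟩ :=
    (IsLocalization.map_eq_zero_iff (Submonoid.powers (algebraMap A B g)) _ _).1 h0
  simp only at hk
  have h1 : v ^ n = g ^ k • v ^ (n + k) := by
    rw [Algebra.smul_def, map_pow, pow_add, mul_left_comm, ← mul_pow, hv, one_pow, mul_one]
  rw [h1, ← TensorProduct.smul_tmul, Algebra.smul_def, map_pow, hk, TensorProduct.zero_tmul]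

theorem tmap_surjective {U : (Spec A).Opens} {g : A} (hU : U = bo g) :
    Function.Surjective (tmap (B := B) U) := by
  subst hU
  intro y
  obtain ⟨v, hv⟩ := (isUnit_algebraMap_of_le (le_refl (bo g))).exists_right_inv
  obtain ⟨⟨b, ⟨_, n, rfl⟩⟩, hb⟩ :=
    IsLocalization.surj (M := Submonoid.powers (algebraMap A B g)) (S := Γ(Spec B, bo (algebraMap A B g))) y
  simp only at hb
  refine ⟨b ⊗ₜ[A] (v ^ n), ?_⟩
  have hu : IsUnit ((spMap A B).app (bo g) (algebraMap A Γ(Spec A, bo g) g ^ n)) :=
    ((IsUnit.of_mul_eq_one _ hv).pow n).map _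
  refine hu.mul_left_inj.1 ?_
  refine (congrArg (· * (spMap A B).app (bo g) (algebraMap A Γ(Spec A, bo g) g ^ n)) (tmap_tmul (bo g) b (v ^ n))).trans ?_
  rw [mul_assoc, ← map_mul, ← mul_pow, mul_comm v, hv, one_pow, map_one, mul_one, map_pow,
    app_algebraMap]
  show algebraMap B _ b = y * algebraMap B _ (algebraMap A B g) ^ n
  rw [← map_pow]
  exact hb.symm

variable {ι : Type u} (f : ι → A)

/-- Families of sections on basic opens. -/
abbrev FamP : Type u := ∀ i : ι, Γ(Spec A, bo (f i))

/-- Families of sections on the preimages. -/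
abbrev FamQ (B : CommRingCat.{u}) [Algebra A B] : Type u :=
  ∀ i : ι, Γ(Spec B, spMap A B ⁻¹ᵁ bo (f i))

variable (t : ∀ i j : ι, Γ(Spec A, bo (f i) ⊓ bo (f j)))

/-- The obstruction to transforming by `t`. -/
noncomputable def delta : FamP f →ₗ[A] ∀ q : ι × ι, Γ(Spec A, bo (f q.1) ⊓ bo (f q.2)) :=
  LinearMap.pi fun q =>
    (LinearMap.mulRight A (t q.1 q.2) ∘ₗ (resA inf_le_left).toLinearMap ∘ₗ LinearMap.proj q.1) -
      (resA inf_le_right).toLinearMap ∘ₗ LinearMap.proj q.2

theorem mem_ker_delta (x : FamP f) : x ∈ LinearMap.ker (delta f t) ↔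
    ∀ i j, resR inf_le_left (x i) * t i j = resR inf_le_right (x j) := by
  rw [LinearMap.mem_ker, funext_iff, Prod.forall]
  simp [delta, sub_eq_zero]

/-- A tensor as a family on the preimages. -/
noncomputable def famMap (z : B ⊗[A] FamP f) : FamQ f B :=
  fun i => tmap (bo (f i)) ((LinearMap.proj (R := A) (φ := fun i : ι => Γ(Spec A, bo (f i))) i).lTensor B z)

theorem lTensor_proj_injective [Finite ι] (P : ι → Type u) [∀ i, AddCommGroup (P i)] [∀ i, Module A (P i)]
    {z : B ⊗[A] (∀ i, P i)} (h : ∀ i, (LinearMap.proj (R := A) (φ := P) i).lTensor B z = 0) : z = 0 := by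
  classical
  haveI := Fintype.ofFinite ι
  have key : ∀ (w : B ⊗[A] (∀ i, P i)) (i : ι),
      TensorProduct.piRight A A B P w i = (LinearMap.proj (R := A) (φ := P) i).lTensor B w := fun w i => by
    induction w using TensorProduct.induction_on with
    | zero => simp
    | tmul b x => simp
    | add a b ha hb => rw [map_add, map_add, Pi.add_apply, ha, hb]
  exact (TensorProduct.piRight A A B P).injective (funext fun i => by rw [key, h, map_zero]; rfl)

theorem famMap_injective [Finite ι] {z : B ⊗[A] FamP f} (h : famMap f z = 0) : z = 0 :=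
  lTensor_proj_injective _ fun i => tmap_injective (B := B) rfl ((congrFun h i).trans (map_zero _).symm)

theorem famMap_surjective [Finite ι] : Function.Surjective (famMap (B := B) f) := by
  classical
  intro y
  haveI := Fintype.ofFinite ι
  choose w hw using fun i => tmap_surjective (B := B) (U := bo (f i)) rfl (y i)
  refine ⟨∑ i, (LinearMap.single A (fun i : ι => Γ(Spec A, bo (f i))) i).lTensor B (w i), funext fun j => ?_⟩
  show tmap _ _ = _
  rw [map_sum, Finset.sum_eq_single j]
  · rw [← LinearMap.lTensor_comp_apply, LinearMap.proj_comp_single_same, LinearMap.lTensor_id_apply, hw]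
  · intro i _ hij
    rw [← LinearMap.lTensor_comp_apply, LinearMap.proj_comp_single_ne A _ _ _ hij.symm, LinearMap.lTensor_zero]
    rfl
  · simp

theorem tmap_delta (z : B ⊗[A] FamP f) (i j : ι) :
    tmap _ ((LinearMap.proj (R := A) (φ := fun q : ι × ι => Γ(Spec A, bo (f q.1) ⊓ bo (f q.2))) (i, j)).lTensor B
      ((delta f t).lTensor B z)) =
      resR ((spMap A B).preimage_mono inf_le_left) (famMap f z i) * (spMap A B).app _ (t i j) -
        resR ((spMap A B).preimage_mono inf_le_right) (famMap f z j) := by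
  rw [← LinearMap.lTensor_comp_apply, delta, LinearMap.proj_pi, LinearMap.lTensor_sub, LinearMap.sub_apply,
    map_sub, LinearMap.lTensor_comp_apply, LinearMap.lTensor_comp_apply, LinearMap.lTensor_comp_apply,
    tmap_mul, tmap_res, tmap_res]
  rfl

/-- Compatible families on the preimages come from the compatible families tensored with `B`. -/
theorem exists_of_compatible [Finite ι] [Module.Flat A B] (y : FamQ f B)
    (hy : ∀ i j, resR ((spMap A B).preimage_mono inf_le_left) (y i) * (spMap A B).app _ (t i j) =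
      resR ((spMap A B).preimage_mono inf_le_right) (y j)) :
    ∃ z : B ⊗[A] LinearMap.ker (delta f t), famMap f ((LinearMap.ker (delta f t)).subtype.lTensor B z) = y := by
  obtain ⟨w, hw⟩ := famMap_surjective f y
  have h0 : (delta f t).lTensor B w = 0 := by
    refine lTensor_proj_injective _ fun q => tmap_injective (B := B) (g := f q.1 * f q.2)
      (PrimeSpectrum.basicOpen_mul _ _).symm ?_
    refine ((tmap_delta f t w q.1 q.2).trans ?_).trans (map_zero _).symm
    rw [hw, sub_eq_zero]
    exact hy q.1 q.2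
  obtain ⟨z, hz⟩ := (Module.Flat.lTensor_exact (M := B) (delta f t).exact_subtype_ker_map w).1 h0
  exact ⟨z, by rw [hz, hw]⟩

theorem famMap_ker_injective [Finite ι] [Module.Flat A B] {z : B ⊗[A] LinearMap.ker (delta f t)}
    (h : famMap f ((LinearMap.ker (delta f t)).subtype.lTensor B z) = 0) : z = 0 :=
  Module.Flat.lTensor_preserves_injective_linearMap (M := B) _ (Submodule.injective_subtype _)
    ((famMap_injective f h).trans (map_zero _).symm)

end Groth.Agent.Para81
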