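import Groth.Agent.Para81.LocDescend
import Groth.Agent.Para81.FrameGlue
import Groth.Agent.H23.CocycleMod

/-!
# Spreading frames and transition functions from a localization
-/

set_option autoImplicit false

universe u

open CategoryTheory AlgebraicGeometry TopologicalSpace Opposite

namespace Groth.Agent.Para81

open Groth.Agent.AModX Groth.Agent.InvX Groth.Agent.H23

variable {A B : CommRingCat.{u}} [Algebra A B] (S : Submonoid A) [IsLocalization S B]

theorem bo_mul {R : CommRingCat.{u}} (a b : R) : bo a ⊓ bo b = bo (a * b) :=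
  (PrimeSpectrum.basicOpen_mul a b).symm

include S in
/-- A multiple of finitely many elements of the submonoid. -/
theorem exists_bo_le {ι : Type*} [Finite ι] (s : ι → A) (hs : ∀ i, s i ∈ S) :
    ∃ t ∈ S, ∀ i, bo t ≤ bo (s i) := by
  classical
  cases nonempty_fintype ι
  refine ⟨∏ i, s i, S.prod_mem fun i _ => hs i, fun i => ?_⟩
  obtain ⟨c, hc⟩ := Finset.dvd_prod_of_mem s (Finset.mem_univ i)
  rw [hc, ← bo_mul]
  exact inf_le_left

set_option maxHeartbeats 1000000 in
include S in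
/-- A frame on the localization spreads to a neighbourhood. -/
theorem frame_spread (M : (Spec A).Modules) (W : (Spec A).Opens) {ι : Type u} [Finite ι]
    (f : ι → A) (hfW : ∀ i, bo (f i) ≤ W) (hcov : ∀ x ∈ W, ∃ i, x ∈ bo (f i))
    (e : ∀ i, Γ(M, bo (f i))) (he : ∀ i, IsFrame (e i))
    (σ : Γ((Scheme.Modules.pullback (spMap A B)).obj M, spMap A B ⁻¹ᵁ W)) (hσ : IsFrame σ) :
    ∃ s ∈ S, ∃ m : Γ(M, W ⊓ bo s), IsFrame m := by
  classical
  let π := spMap A B
  let P := (Scheme.Modules.pullback π).obj M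
  have hr : ∀ i, ∃ r : Γ(Spec B, π ⁻¹ᵁ bo (f i)), IsUnit r ∧
      res P (π.preimage_mono (hfW i)) σ = r • pullElt π (e i) :=
    fun i => InvUfdLib.exists_unit_of_frames (hσ.res _) (isFrame_pullElt π (he i))
  choose r hr hre using hr
  choose a ha u hu hua using fun i => unit_descend S (U := bo (f i)) rfl (r i) (hr i)
  let V : ι → (Spec A).Opens := fun i => bo (f i) ⊓ bo (a i)
  have hV0 : ∀ i, V i ≤ bo (f i) := fun i => inf_le_left
  have hVl : ∀ i j, V i ⊓ V j ≤ bo (f i) := fun i j => le_trans (inf_le_left : V i ⊓ V j ≤ V i) (hV0 i)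
  have hVr : ∀ i j, V i ⊓ V j ≤ bo (f j) := fun i j => le_trans (inf_le_right : V i ⊓ V j ≤ V j) (hV0 j)
  have ht : ∀ i j, ∃ t : Γ(Spec A, V i ⊓ V j),
      res M (hVl i j) (e i) = t • res M (hVr i j) (e j) :=
    fun i j => (he j).exists_coord (hVr i j) (res M (hVl i j) (e i))
  choose t ht using ht
  have key : ∀ i j, ∃ b ∈ S, ∀ (Z : (Spec A).Opens) (h : Z ≤ V i ⊓ V j), Z ≤ bo b →
      resR h (resR inf_le_left (u i) * t i j) = resR h (resR inf_le_right (u j)) := by
    intro i j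
    refine eq_descend (B := B) S (f := f i * a i * (f j * a j)) (by simp only [V, bo_mul]) _ _ ?_
    rw [map_mul, app_resR, app_resR, hua, hua, resR_resR, resR_resR]
    have ht' := congrArg (pullElt π) (ht i j)
    rw [pullElt_res, pullElt_smul, pullElt_res] at ht'
    have hi : π ⁻¹ᵁ (V i ⊓ V j) ≤ π ⁻¹ᵁ bo (f i) := π.preimage_mono (hVl i j)
    have hj : π ⁻¹ᵁ (V i ⊓ V j) ≤ π ⁻¹ᵁ bo (f j) := π.preimage_mono (hVr i j)
    have h1 := congrArg (res P hi) (hre i)
    have h2 := congrArg (res P hj) (hre j)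
    rw [res_smul, res_res] at h1 h2
    exact coord_mul (isFrame_pullElt π (he j)) h1 h2 ht'
  choose b hb hbe using key
  obtain ⟨s, hs, hsa⟩ := exists_bo_le S (Sum.elim a fun p : ι × ι => b p.1 p.2)
    (fun i => i.casesOn ha fun p => hb p.1 p.2)
  let U : ι → (Spec A).Opens := fun i => bo (f i) ⊓ bo s
  have hUV : ∀ i, U i ≤ V i := fun i => inf_le_inf_left _ (hsa (Sum.inl i))
  refine ⟨s, hs, exists_frame_glue U (W ⊓ bo s) (fun i => inf_le_inf_right _ (hfW i))
    (fun x hx => (hcov x hx.1).imp fun i hi => ⟨hi, hx.2⟩) (fun i => res M inf_le_left (e i))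
    (fun i => (he i).res _) (fun i => resR (hUV i) (u i)) (fun i => (hu i).map _) fun i j => ?_⟩
  have hZ : U i ⊓ U j ≤ V i ⊓ V j := inf_le_inf (hUV i) (hUV j)
  have h1 := hbe i j _ hZ (inf_le_left.trans (inf_le_right.trans (hsa (Sum.inr (i, j)))))
  rw [map_mul, resR_resR, resR_resR] at h1
  have h2 := congrArg (res M hZ) (ht i j)
  rw [res_smul, res_res, res_res] at h2
  simp only [res_smul, res_res, resR_resR]
  rw [h2, ← mul_smul, h1]

set_option maxHeartbeats 1000000 in
include S in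
/-- The transition functions of frames on the localization spread to a cocycle. -/
theorem cocycle_spread (P : (Spec B).Modules) {ι : Type u} [Finite ι] (f : ι → A)
    (e : ∀ i, Γ(P, spMap A B ⁻¹ᵁ bo (f i))) (he : ∀ i, IsFrame (e i)) :
    ∃ s ∈ S, ∃ t : CocycleMod.Cocycle (fun i => bo (f i) ⊓ bo s),
      ∀ i j, res P ((spMap A B).preimage_mono (inf_le_left.trans inf_le_left :
          (bo (f i) ⊓ bo s) ⊓ (bo (f j) ⊓ bo s) ≤ bo (f i))) (e i) =
        (spMap A B).app _ (t.g i j : Γ(Spec A, (bo (f i) ⊓ bo s) ⊓ (bo (f j) ⊓ bo s))) •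
          res P ((spMap A B).preimage_mono (inf_le_right.trans inf_le_left :
          (bo (f i) ⊓ bo s) ⊓ (bo (f j) ⊓ bo s) ≤ bo (f j))) (e j) := by
  classical
  let π := spMap A B
  have hr : ∀ i j, ∃ r : Γ(Spec B, π ⁻¹ᵁ (bo (f i) ⊓ bo (f j))), IsUnit r ∧
      res P (π.preimage_mono inf_le_left) (e i) = r • res P (π.preimage_mono inf_le_right) (e j) :=
    fun i j => InvUfdLib.exists_unit_of_frames ((he i).res _) ((he j).res _)
  choose r hr hre using hr
  choose a ha u hu hua using fun i j =>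
    unit_descend (B := B) S (U := bo (f i) ⊓ bo (f j)) (bo_mul (f i) (f j)) (r i j) (hr i j)
  obtain ⟨a₀, ha₀, hle⟩ := exists_bo_le S (fun p : ι × ι => a p.1 p.2) fun p => ha p.1 p.2
  let V : ι → (Spec A).Opens := fun i => bo (f i) ⊓ bo a₀
  have hV : ∀ i j, V i ⊓ V j ≤ bo (f i) ⊓ bo (f j) ⊓ bo (a i j) := fun i j =>
    le_inf (inf_le_inf inf_le_left inf_le_left) (inf_le_left.trans (inf_le_right.trans (hle (i, j))))
  have key : ∀ i j k, ∃ b ∈ S, ∀ (Z : (Spec A).Opens) (h : Z ≤ V i ⊓ V j ⊓ V k), Z ≤ bo b →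
      resR h (resR ((inf_le_inf_right _ inf_le_left).trans (hV i k)) (u i k)) =
        resR h (resR ((inf_le_inf_right _ inf_le_right).trans (hV j k)) (u j k) *
          resR (inf_le_left.trans (hV i j)) (u i j)) := by
    intro i j k
    refine eq_descend (B := B) S (f := f i * a₀ * (f j * a₀) * (f k * a₀)) (by simp only [V, bo_mul]) _ _ ?_
    rw [map_mul, app_resR, app_resR, app_resR, hua, hua, hua, resR_resR, resR_resR, resR_resR]
    let Z := π ⁻¹ᵁ (V i ⊓ V j ⊓ V k)
    have hi : Z ≤ π ⁻¹ᵁ bo (f i) := π.preimage_mono (inf_le_left.trans (inf_le_left.trans inf_le_left))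
    have hj : Z ≤ π ⁻¹ᵁ bo (f j) := π.preimage_mono (inf_le_left.trans (inf_le_right.trans inf_le_left))
    have hk : Z ≤ π ⁻¹ᵁ bo (f k) := π.preimage_mono (inf_le_right.trans inf_le_left)
    have h1 := congrArg (res P (show Z ≤ π ⁻¹ᵁ (bo (f i) ⊓ bo (f k)) from le_inf hi hk)) (hre i k)
    have h2 := congrArg (res P (show Z ≤ π ⁻¹ᵁ (bo (f i) ⊓ bo (f j)) from le_inf hi hj)) (hre i j)
    have h3 := congrArg (res P (show Z ≤ π ⁻¹ᵁ (bo (f j) ⊓ bo (f k)) from le_inf hj hk)) (hre j k)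
    rw [res_smul, res_res, res_res] at h1 h2 h3
    exact (coord_mul (he k) h2 h1 h3).symm.trans (mul_comm _ _)
  choose b hb hbe using key
  obtain ⟨s, hs, hsa⟩ := exists_bo_le S
    (Sum.elim (fun _ : Unit => a₀) fun p : ι × ι × ι => b p.1 p.2.1 p.2.2)
    (fun i => i.casesOn (fun _ => ha₀) fun p => hb p.1 p.2.1 p.2.2)
  have hUV : ∀ i, bo (f i) ⊓ bo s ≤ V i := fun i => inf_le_inf_left _ (hsa (Sum.inl ()))
  let t : CocycleMod.Cocycle (fun i => bo (f i) ⊓ bo s) :=
    { g := fun i j => ((hu i j).map (resR ((inf_le_inf (hUV i) (hUV j)).trans (hV i j)))).unit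
      trans := fun i j k Z hi hj hk => by
        simp only [IsUnit.unit_spec]
        have h := hbe i j k Z
          (le_inf (le_inf (hi.trans (hUV i)) (hj.trans (hUV j))) (hk.trans (hUV k)))
          (hi.trans (inf_le_right.trans (hsa (Sum.inr (i, j, k)))))
        rw [map_mul, resR_resR, resR_resR, resR_resR] at h
        rw [resR_resR, resR_resR, resR_resR]
        exact h }
  refine ⟨s, hs, t, fun i j => ?_⟩
  simp only [t, IsUnit.unit_spec]
  rw [app_resR, hua, resR_resR]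
  have h := congrArg (res P (π.preimage_mono (inf_le_inf inf_le_left inf_le_left :
    (bo (f i) ⊓ bo s) ⊓ (bo (f j) ⊓ bo s) ≤ bo (f i) ⊓ bo (f j)))) (hre i j)
  rw [res_smul, res_res, res_res] at h
  exact h

end Groth.Agent.Para81
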