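import Groth.Agent.Para81.PuncturedAffine

/-!
# Components of a fibre over a point off which a morphism is an open immersion
-/

set_option autoImplicit false
set_option linter.style.haveILetI false

universe u

open CategoryTheory AlgebraicGeometry TopologicalSpace Opposite IsLocalRing

namespace Groth.Agent.Para81

/-- A prime above `p` containing neither `J` nor lying below `P`. -/
theorem exists_prime_avoiding {R : Type u} [CommRing R] [IsNoetherianRing R] [IsLocalRing R]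
    {p P J : Ideal R} [p.IsPrime] [P.IsPrime] (hpP : p ≤ P) (hP : P ≠ maximalIdeal R)
    (hJP : J ≤ P) (hJp : ¬ J ≤ p) :
    ∃ q : Ideal R, q.IsPrime ∧ p ≤ q ∧ ¬ J ≤ q ∧ ¬ q ≤ P := by
  classical
  let S : Set (Ideal R) := insert P {M | M ∈ (p ⊔ J).minimalPrimes ∧ M ≠ maximalIdeal R}
  have hfin : S.Finite :=
    (((p ⊔ J).finite_minimalPrimes_of_isNoetherianRing R).subset fun _ h => h.1).insert P
  have hSp : ∀ M ∈ S, M.IsPrime ∧ M ≠ maximalIdeal R := by
    rintro M (rfl | hM)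
    · exact ⟨inferInstance, hP⟩
    · exact ⟨hM.1.1.1, hM.2⟩
  obtain ⟨x, hxm, hx⟩ : ∃ x ∈ maximalIdeal R, ∀ M ∈ S, x ∉ M := by
    by_contra hc
    push Not at hc
    have hsub : (maximalIdeal R : Set R) ⊆ ⋃ M ∈ (hfin.toFinset : Set (Ideal R)), (M : Set R) := fun x hx => by
      obtain ⟨M, hM, hxM⟩ := hc x hx
      exact Set.mem_biUnion (hfin.mem_toFinset.2 hM) hxM
    obtain ⟨M, hM, hle⟩ := (Ideal.subset_union_prime (s := hfin.toFinset) ⊥ ⊥
      (fun M hM _ _ => (hSp M (hfin.mem_toFinset.1 hM)).1)).1 hsub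
    obtain ⟨hMp, hMne⟩ := hSp M (hfin.mem_toFinset.1 hM)
    exact hMne ((maximalIdeal.isMaximal R).eq_of_le hMp.ne_top hle).symm
  obtain ⟨q, hq⟩ := Ideal.nonempty_minimalPrimes (I := p ⊔ Ideal.span {x}) (fun h => by
    have : p ⊔ Ideal.span {x} ≤ maximalIdeal R :=
      sup_le (le_maximalIdeal (Ideal.IsPrime.ne_top inferInstance)) ((Ideal.span_singleton_le_iff_mem _).2 hxm)
    exact (maximalIdeal.isMaximal R).ne_top (top_le_iff.1 (h ▸ this)))
  haveI := hq.1.1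
  have hxq : x ∈ q := hq.1.2 (Ideal.mem_sup_right (Ideal.mem_span_singleton_self x))
  have hpq : p ≤ q := le_sup_left.trans hq.1.2
  refine ⟨q, hq.1.1, hpq, fun hJq => ?_, fun hqP => hx P (Set.mem_insert _ _) (hqP hxq)⟩
  obtain ⟨M, hM, hMq⟩ := Ideal.exists_minimalPrimes_le (sup_le hpq hJq : p ⊔ J ≤ q)
  haveI := hM.1.1
  have hMmax : M ≠ maximalIdeal R := fun h => by
    have h1 : maximalIdeal R ≤ P := h ▸ (hM.2 ⟨inferInstance, sup_le hpP hJP⟩
      (h ▸ le_maximalIdeal (Ideal.IsPrime.ne_top inferInstance)))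
    exact hP (le_antisymm (le_maximalIdeal (Ideal.IsPrime.ne_top inferInstance)) h1)
  have hxM : x ∉ M := hx M (Set.mem_insert_of_mem _ ⟨hM, hMmax⟩)
  have hMlt : M < q := lt_of_le_of_ne hMq fun h => hxM (h ▸ hxq)
  have hpM : p < M := lt_of_le_of_ne (le_sup_left.trans hM.1.2) fun h => hJp (h ▸ le_sup_right.trans hM.1.2)
  let π := Ideal.Quotient.mk p
  have hs : Function.Surjective π := Ideal.Quotient.mk_surjective
  have hcm : ∀ {I : Ideal R}, p ≤ I → (I.map π).comap π = I := fun {I} hI =>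
    (Ideal.comap_map_of_surjective π hs I).trans (sup_eq_left.2 (Ideal.mk_ker.le.trans hI))
  have hh := Ideal.map_height_le_one_of_mem_minimalPrimes hq
  haveI : (M.map π).IsPrime := Ideal.map_isPrime_of_surjective hs (Ideal.mk_ker.le.trans hpM.le)
  haveI : (q.map π).IsPrime := Ideal.map_isPrime_of_surjective hs (Ideal.mk_ker.le.trans hpq)
  have h1 : M.map π < q.map π := lt_of_le_of_ne (Ideal.map_mono hMlt.le) fun h =>
    hMlt.ne (by rw [← hcm hpM.le, h, hcm hpq])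
  have h0 : (⊥ : Ideal (R ⧸ p)) < M.map π := bot_lt_iff_ne_bot.2 fun h =>
    hpM.ne (by rw [← hcm hpM.le, h, ← RingHom.ker_eq_comap_bot, Ideal.mk_ker])
  haveI : (⊥ : Ideal (R ⧸ p)).IsPrime := Ideal.isPrime_bot
  have h2 : (1 : ℕ∞) ≤ (M.map π).height :=
    le_trans le_add_self (Ideal.height_add_one_le_of_lt_of_isPrime h0)
  have h3 : (2 : ℕ∞) ≤ 1 := by
    refine le_trans ?_ ((Ideal.height_add_one_le_of_lt_of_isPrime h1).trans hh)
    rw [← one_add_one_eq_two]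
    gcongr
  exact absurd h3 (by norm_num)

theorem mem_range_fromSpecStalk {X : Scheme.{u}} {x w : X} (h : w ⤳ x) :
    w ∈ Set.range (X.fromSpecStalk x) := by
  rw [Scheme.range_fromSpecStalk]; exact h

theorem fromSpecStalk_specializes {X : Scheme.{u}} {x : X} (q : Spec (X.presheaf.stalk x)) :
    X.fromSpecStalk x q ⤳ x := by
  have h : X.fromSpecStalk x q ∈ Set.range (X.fromSpecStalk x) := ⟨q, rfl⟩
  rwa [Scheme.range_fromSpecStalk] at h

theorem fromSpecStalk_specializes_iff {X : Scheme.{u}} {x : X} (p q : Spec (X.presheaf.stalk x)) :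
    X.fromSpecStalk x p ⤳ X.fromSpecStalk x q ↔ p.asIdeal ≤ q.asIdeal :=
  (X.fromSpecStalk x).isEmbedding.isInducing.specializes_iff.trans
    (PrimeSpectrum.le_iff_specializes p q).symm

theorem ι_morphismRestrict_apply {X Y : Scheme.{u}} (g : X ⟶ Y) (W : Y.Opens)
    (a : ((g ⁻¹ᵁ W : X.Opens) : Scheme.{u})) : W.ι ((g ∣_ W) a) = g ((g ⁻¹ᵁ W).ι a) := by
  rw [← Scheme.Hom.comp_apply, morphismRestrict_ι, Scheme.Hom.comp_apply]

variable {X Y : Scheme.{u}} [IsLocallyNoetherian X] (g : X ⟶ Y) {y : Y}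

/-- If `z` is not isolated, some specialisation of a generisation escapes it and the fibre. -/
theorem exists_escape {η z z' : X} (hη : η ⤳ z) (hzz' : z ⤳ z') (hne : z' ≠ z) (hz : g z = y) (hz' : g z' = y)
    (hηy : g η ≠ y) : ∃ t : X, η ⤳ t ∧ t ⤳ z' ∧ g t ≠ y ∧ ¬ t ⤳ z := by
  subst hz'
  obtain ⟨p, rfl⟩ := mem_range_fromSpecStalk (hη.trans hzz')
  obtain ⟨P, rfl⟩ := mem_range_fromSpecStalk hzz'
  let φ := (g.stalkMap z').hom
  let J := (maximalIdeal (Y.presheaf.stalk (g z'))).map φ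
  have key : ∀ q : Spec (X.presheaf.stalk z'), J ≤ q.asIdeal ↔ g (X.fromSpecStalk z' q) = g z' := by
    intro q
    haveI := q.isPrime
    have e : Y.fromSpecStalk (g z') (Spec.map (g.stalkMap z') q) = g (X.fromSpecStalk z' q) := by
      rw [← Scheme.Hom.comp_apply, Scheme.SpecMap_stalkMap_fromSpecStalk, Scheme.Hom.comp_apply]
    rw [← e, Ideal.map_le_iff_le_comap]
    constructor
    · intro h
      rw [show Spec.map (g.stalkMap z') q = closedPoint _ from PrimeSpectrum.ext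
        (le_antisymm (le_maximalIdeal (Ideal.IsPrime.comap φ).ne_top) h), Scheme.fromSpecStalk_closedPoint]
    · intro h
      have h2 := (Y.fromSpecStalk (g z')).isEmbedding.injective
        (h.trans (Scheme.fromSpecStalk_closedPoint (X := Y) (x := g z')).symm)
      exact (congrArg PrimeSpectrum.asIdeal h2).ge
  haveI := p.isPrime
  haveI := P.isPrime
  obtain ⟨q, hqp, hpq, hJq, hqP⟩ := exists_prime_avoiding
    ((fromSpecStalk_specializes_iff p P).1 hη)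
    (fun h => hne (by
      rw [show P = closedPoint _ from PrimeSpectrum.ext h, Scheme.fromSpecStalk_closedPoint]))
    ((key P).2 hz) (fun h => hηy ((key p).1 h))
  exact ⟨X.fromSpecStalk z' ⟨q, hqp⟩, (fromSpecStalk_specializes_iff p ⟨q, hqp⟩).2 hpq,
    fromSpecStalk_specializes _, fun h => hJq ((key ⟨q, hqp⟩).2 h),
    fun h => hqP ((fromSpecStalk_specializes_iff ⟨q, hqp⟩ P).1 h)⟩

theorem dim_le_one_or_isolated_aux [IsLocallyNoetherian Y] (O₀ V₀ : X.Opens) [IsOpenImmersion (V₀.ι ≫ g)]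
    (hout : ∀ x ∈ O₀, x ∉ V₀ → y ⤳ g x)
    (hW : ∀ U : (Spec (Y.presheaf.stalk y)).Opens, ∀ hU : U ≤ FEt.puncturedSpec ↑(Y.presheaf.stalk y),
        (∀ T ∈ irreducibleComponents ↥(FEt.puncturedSpec ↑(Y.presheaf.stalk y)), ¬ Subtype.val '' T ⊆ (U : Set _)) →
        IsAffineHom ((Spec (Y.presheaf.stalk y)).homOfLE hU) → IsAffineOpen U)
    (z : X) (hzO₀ : z ∈ O₀) (hz : g z = y) (hmax : ∀ z' : X, g z' = y → z' ⤳ z → z' = z) :
    ringKrullDim ↑(X.presheaf.stalk z) ≤ 1 ∨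
      ∃ O : X.Opens, z ∈ O ∧ ∀ z' : X, z' ∈ O → g z' = y → z ⤳ z' → z' = z := by
  classical
  rw [or_iff_not_imp_right]
  intro hiso
  push Not at hiso
  let Cy : Y.Opens := ⟨(closure {y})ᶜ, isClosed_closure.isOpen_compl⟩
  have hCy : ∀ w : Y, w ⤳ y → w ≠ y → w ∈ Cy := fun w hwy hne h =>
    hne (inseparable_iff_specializes_and.2 ⟨hwy, specializes_iff_mem_closure.2 h⟩).eq
  have hV₀ : ∀ x ∈ O₀, g x ∈ Cy → x ∈ V₀ := fun x hx h => by
    by_contra hn
    exact h (specializes_iff_mem_closure.1 (hout x hx hn))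
  have hι : ∀ a : (V₀ : Scheme.{u}), (V₀.ι ≫ g) a = g a.1 := fun a => Scheme.Hom.comp_apply _ _ a
  obtain ⟨_, ⟨V, hV, rfl⟩, hyV, -⟩ :=
    Y.isBasis_affineOpens.exists_subset_of_mem_open (Set.mem_univ y) isOpen_univ
  have hV' : IsAffineOpen V := hV
  obtain ⟨_, ⟨O, hO, rfl⟩, hzO, hOV⟩ := X.isBasis_affineOpens.exists_subset_of_mem_open
    (show z ∈ ((g ⁻¹ᵁ V ⊓ O₀ : X.Opens) : Set X) from ⟨(show g z ∈ V by rw [hz]; exact hyV), hzO₀⟩) (g ⁻¹ᵁ V ⊓ O₀).isOpen
  have hO' : IsAffineOpen O := hO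
  obtain ⟨z', hz'O, hz', hzz', hne⟩ := hiso O hzO
  let A := Y.presheaf.stalk y
  let fs := Y.fromSpecStalk y
  haveI : IsNoetherianRing A := inferInstance
  let P := FEt.puncturedSpec A
  have hP : ∀ q : Spec A, q ∈ P ↔ fs q ≠ y := fun q => by
    constructor
    · intro h h'
      exact h (fs.isEmbedding.injective (h'.trans (Scheme.fromSpecStalk_closedPoint (X := Y) (x := y)).symm))
    · intro h h'
      exact h (by rw [show q = closedPoint A from h']; exact Scheme.fromSpecStalk_closedPoint)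
  haveI : NoetherianSpace (P : Scheme.{u}) := P.ι.isOpenEmbedding.isInducing.noetherianSpace
  have hinj : ∀ a b : X, a ∈ O₀ → b ∈ O₀ → g a ∈ Cy → g a = g b → a = b := fun a b ha hb hay hab => by
    let a' : (V₀ : Scheme.{u}) := ⟨a, hV₀ a ha hay⟩
    let b' : (V₀ : Scheme.{u}) := ⟨b, hV₀ b hb (hab ▸ hay)⟩
    have := (V₀.ι ≫ g).isOpenEmbedding.injective (a₁ := a') (a₂ := b') ((hι a').trans (hab.trans (hι b').symm))
    exact congrArg Subtype.val this
  have hesc : ∀ T : irreducibleComponents (P : Scheme.{u}), ∃ τ ∈ T.1, ∀ o : X, g o = fs (P.ι τ) →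
      o ∈ O → ∃ t : X, (t ∈ O₀ ∧ g t ≠ y) ∧ ¬ t ⤳ z ∧ ∃ σ ∈ T.1, g t = fs (P.ι σ) := by
    intro T
    obtain ⟨η, hη⟩ := QuasiSober.sober T.2.1 (isClosed_of_mem_irreducibleComponents _ T.2)
    refine ⟨η, hη.mem, fun o ho hoO => ?_⟩
    have hgo : g o ≠ y := by rw [ho]; exact (hP _).1 η.2
    by_cases hoz : o ⤳ z
    · obtain ⟨t, hot, htz', hty, htz⟩ := exists_escape g hoz hzz' hne hz hz' hgo
      refine ⟨t, ⟨htz'.mem_open O₀.isOpen (hOV hz'O).2, hty⟩, htz, ?_⟩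
      obtain ⟨q, hq⟩ := mem_range_fromSpecStalk (show g t ⤳ y from hz' ▸ htz'.map g.continuous)
      have hq' : fs q = g t := hq
      refine ⟨⟨q, (hP q).2 (by rw [hq']; exact hty)⟩, hη.specializes_iff_mem.1 ?_, hq'.symm⟩
      refine P.ι.isOpenEmbedding.isInducing.specializes_iff.1 (fs.isEmbedding.isInducing.specializes_iff.1 ?_)
      show fs (P.ι η) ⤳ fs q
      rw [← ho, hq']
      exact hot.map g.continuous
    · exact ⟨o, ⟨(hOV hoO).2, hgo⟩, hoz, η, hη.mem, ho⟩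
  choose τ hτ ht using hesc
  haveI : Finite (irreducibleComponents (P : Scheme.{u})) :=
    NoetherianSpace.finite_irreducibleComponents.to_subtype
  let bad : irreducibleComponents (P : Scheme.{u}) → Set X := fun T =>
    if h : ∃ o, g o = fs (P.ι (τ T)) ∧ o ∈ O then closure {(ht T h.choose h.choose_spec.1 h.choose_spec.2).choose}
    else ∅
  have hbadc : IsClosed (⋃ T, bad T) := isClosed_iUnion_of_finite fun T => by
    simp only [bad]; split
    · exact isClosed_closure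
    · exact isClosed_empty
  have hzbad : z ∉ ⋃ T, bad T := by
    rw [Set.mem_iUnion]
    rintro ⟨T, hT⟩
    simp only [bad] at hT
    split at hT
    next h =>
      exact (ht T h.choose h.choose_spec.1 h.choose_spec.2).choose_spec.2.1 (specializes_iff_mem_closure.2 hT)
    next h => exact (Set.mem_empty_iff_false z).1 hT
  obtain ⟨f, hfle, hzf⟩ := hO'.exists_basicOpen_le (V := O ⊓ ⟨(⋃ T, bad T)ᶜ, hbadc.isOpen_compl⟩)
    ⟨z, hzO, hzbad⟩ hzO
  let O₁ := X.basicOpen f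
  have hO₁ : IsAffineOpen O₁ := hO'.basicOpen f
  have hO₁O : O₁ ≤ O := hfle.trans inf_le_left
  let G : Y.Opens := ((V₀.ι ≫ g) ''ᵁ (V₀.ι ⁻¹ᵁ O₁)) ⊓ Cy
  have hO₁₀ : ∀ o ∈ O₁, o ∈ O₀ := fun o ho => (hOV (hO₁O ho)).2
  have hG : ∀ w : Y, w ∈ G ↔ ∃ o ∈ O₁, g o ∈ Cy ∧ g o = w := by
    intro w
    constructor
    · rintro ⟨⟨a, ha, rfl⟩, hw⟩
      exact ⟨a.1, ha, (hι a) ▸ hw, (hι a).symm⟩
    · rintro ⟨o, ho, hoy, rfl⟩
      exact ⟨⟨⟨o, hV₀ o (hO₁₀ o ho) hoy⟩, ho, hι _⟩, hoy⟩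
  let U : (Spec A).Opens := fs ⁻¹ᵁ G
  have hU : U ≤ P := fun q hq => (hP q).2 (by
    obtain ⟨o, -, hoy, ho⟩ := (hG _).1 hq
    rw [← ho]; exact fun h => hoy (h ▸ subset_closure rfl))
  have hnc : ∀ T ∈ irreducibleComponents ↥P, ¬ Subtype.val '' T ⊆ (U : Set _) := by
    intro T hT hsub
    have hηU : (τ ⟨T, hT⟩).1 ∈ U := hsub ⟨_, hτ ⟨T, hT⟩, rfl⟩
    obtain ⟨o, hoO, -, ho⟩ := (hG _).1 hηU
    have hex : ∃ o, g o = fs (P.ι (τ ⟨T, hT⟩)) ∧ o ∈ O := ⟨o, ho, hO₁O hoO⟩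
    obtain ⟨hty, -, σ, hσ, htσ⟩ := (ht ⟨T, hT⟩ hex.choose hex.choose_spec.1 hex.choose_spec.2).choose_spec
    obtain ⟨o', ho'O, hoy', ho'⟩ := (hG _).1 (show fs (P.ι σ) ∈ G from hsub ⟨_, hσ, rfl⟩)
    have he : o' = _ := hinj _ _ (hO₁₀ o' ho'O) hty.1 hoy' (ho'.trans htσ.symm)
    refine (hfle ho'O).2 (Set.mem_iUnion.2 ⟨⟨T, hT⟩, ?_⟩)
    simp only [bad]
    rw [dif_pos hex, he]
    exact subset_closure rfl
  have haff : IsAffineHom ((Spec A).homOfLE hU) := by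
    refine isAffineHom_of_forall_exists_isAffineOpen _ fun q => ?_
    have hqy : fs q.1 ∈ V ⊓ Cy := ⟨(fromSpecStalk_specializes q.1).mem_open V.isOpen hyV,
      hCy _ (fromSpecStalk_specializes q.1) ((hP _).1 q.2)⟩
    obtain ⟨d, hd, hqd⟩ := hV'.exists_basicOpen_le (V := V ⊓ Cy) ⟨fs q.1, hqy⟩ hqy.1
    have hDV : Y.basicOpen d ≤ V := hd.trans inf_le_left
    have hD : IsAffineOpen (Y.basicOpen d) := hV'.basicOpen d
    have hfs : ∀ E : Y.Opens, E ≤ V → IsAffineOpen E → IsAffineOpen (fs ⁻¹ᵁ E) := by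
      intro E hEV hE
      rw [show fs = Spec.map (Y.presheaf.germ V y hyV) ≫ hV'.fromSpec from
        (hV'.fromSpecStalk_eq_fromSpecStalk hyV).symm, Scheme.Hom.comp_preimage]
      exact (hE.preimage_of_isOpenImmersion _ (by rw [hV'.opensRange_fromSpec]; exact hEV)).preimage _
    have hsq : O₁ ≤ g ⁻¹ᵁ V := fun o ho => (hOV (hO₁O ho)).1
    haveI : IsAffine (O₁ : Scheme.{u}) := hO₁
    haveI : IsAffine (V : Scheme.{u}) := hV'
    haveI : IsAffineHom (g.resLE V O₁ hsq) := isAffineHom_of_isAffine _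
    have hOD : IsAffineOpen (O₁ ⊓ g ⁻¹ᵁ Y.basicOpen d) := by
      have h1 : IsAffineOpen ((Scheme.Opens.ι V) ⁻¹ᵁ Y.basicOpen d) :=
        hD.preimage_of_isOpenImmersion _ (by rw [Scheme.Opens.opensRange_ι]; exact hDV)
      have h2 := (h1.preimage (g.resLE V O₁ hsq)).image_of_isOpenImmersion O₁.ι
      rwa [← Scheme.Hom.comp_preimage, Scheme.Hom.resLE_comp_ι, Scheme.Hom.comp_preimage,
        Scheme.Hom.image_preimage_eq_opensRange_inf, Scheme.Opens.opensRange_ι] at h2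
    have hle : O₁ ⊓ g ⁻¹ᵁ Y.basicOpen d ≤ V₀ := fun a ha => hV₀ a (hO₁₀ a ha.1) (hd ha.2).2
    have hGD : IsAffineOpen (G ⊓ Y.basicOpen d) := by
      have h3 := (hOD.preimage_of_isOpenImmersion V₀.ι (by rw [Scheme.Opens.opensRange_ι]; exact hle)).image_of_isOpenImmersion
        (V₀.ι ≫ g)
      convert h3 using 1
      ext w
      constructor
      · rintro ⟨hw, hwd⟩
        obtain ⟨o, ho, hoy, rfl⟩ := (hG w).1 hw
        exact ⟨⟨o, hV₀ o (hO₁₀ o ho) hoy⟩, ⟨ho, hwd⟩, hι _⟩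
      · rintro ⟨a, ⟨ha, had⟩, rfl⟩
        exact ⟨(hG _).2 ⟨a.1, ha, (hd had).2, (hι a).symm⟩, show (V₀.ι ≫ g) a ∈ Y.basicOpen d by rw [hι a]; exact had⟩
    refine ⟨P.ι ⁻¹ᵁ (fs ⁻¹ᵁ Y.basicOpen d), hqd, (hfs _ hDV hD).preimage_of_isOpenImmersion _ ?_, ?_⟩
    · rw [Scheme.Opens.opensRange_ι]
      exact fun w hw => (hP w).2 fun h => (hd hw).2 (by
        exact (congrArg (fun v => v ∈ closure ({y} : Set Y)) h).mpr (subset_closure rfl))
    · rw [← Scheme.Hom.comp_preimage, show (Spec A).homOfLE hU ≫ P.ι = U.ι from Scheme.homOfLE_ι _ hU]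
      have h4 := (hfs _ (inf_le_right.trans hDV) hGD).preimage_of_isOpenImmersion U.ι
        (by rw [Scheme.Opens.opensRange_ι, Scheme.Hom.preimage_inf]; exact inf_le_left)
      rwa [Scheme.Hom.preimage_inf, Scheme.Hom.preimage_inf, Scheme.Opens.ι_preimage_self, top_inf_eq] at h4
  have hUaff := hW U hU hnc haff
  subst hz
  refine (puncturedSpec_affine_iff (X.presheaf.stalk z)).1 ?_
  have e : Spec.map (g.stalkMap z) ⁻¹ᵁ U = FEt.puncturedSpec (X.presheaf.stalk z) := by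
    ext q
    have eq1 : fs (Spec.map (g.stalkMap z) q) = g (X.fromSpecStalk z q) := by
      rw [← Scheme.Hom.comp_apply, Scheme.SpecMap_stalkMap_fromSpecStalk, Scheme.Hom.comp_apply]
    show fs (Spec.map (g.stalkMap z) q) ∈ G ↔ q ≠ closedPoint _
    rw [eq1, hG]
    constructor
    · rintro ⟨o, -, hoy, ho⟩ rfl
      rw [Scheme.fromSpecStalk_closedPoint] at ho
      exact hoy (ho ▸ subset_closure rfl)
    · intro hq
      refine ⟨X.fromSpecStalk z q, (fromSpecStalk_specializes q).mem_open O₁.isOpen hzf,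
        hCy _ ((fromSpecStalk_specializes q).map g.continuous) fun h => hq ?_, rfl⟩
      exact (X.fromSpecStalk z).isEmbedding.injective
        ((hmax _ h (fromSpecStalk_specializes q)).trans Scheme.fromSpecStalk_closedPoint.symm)
  rw [← e]
  exact hUaff.preimage _

theorem dim_le_one_or_isolated [IsLocallyNoetherian Y] (Y' : Y.Opens)
    (hY' : (Y' : Set ↥Y) = {y}ᶜ) [IsOpenImmersion (g ∣_ Y')]
    (hW : ∀ U : (Spec (Y.presheaf.stalk y)).Opens, ∀ hU : U ≤ FEt.puncturedSpec ↑(Y.presheaf.stalk y),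
        (∀ T ∈ irreducibleComponents ↥(FEt.puncturedSpec ↑(Y.presheaf.stalk y)), ¬ Subtype.val '' T ⊆ (U : Set _)) →
        IsAffineHom ((Spec (Y.presheaf.stalk y)).homOfLE hU) → IsAffineOpen U)
    (z : X) (hz : g z = y) (hmax : ∀ z' : X, g z' = y → z' ⤳ z → z' = z) :
    ringKrullDim ↑(X.presheaf.stalk z) ≤ 1 ∨
      ∃ O : X.Opens, z ∈ O ∧ ∀ z' : X, z' ∈ O → g z' = y → z ⤳ z' → z' = z := by
  haveI : IsOpenImmersion ((g ⁻¹ᵁ Y').ι ≫ g) := by rw [← morphismRestrict_ι]; infer_instance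
  refine dim_le_one_or_isolated_aux g ⊤ (g ⁻¹ᵁ Y') (fun x _ hx => ?_) hW z trivial hz hmax
  have : g x = y := by
    by_contra h
    exact hx (show g x ∈ (Y' : Set ↥Y) by rw [hY']; exact h)
  rw [this]

end Groth.Agent.Para81
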