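import Groth.Agent.Para81.IsolatedFibre
import Groth.Agent.SchLocX.Dominant
import Mathlib.AlgebraicGeometry.Morphisms.LocalIso

/-!
# Components of the complement of the local isomorphism locus
-/

set_option autoImplicit false
set_option linter.style.haveILetI false

universe u

open CategoryTheory AlgebraicGeometry TopologicalSpace Opposite IsLocalRing

namespace Groth.Agent.Para81

variable {X Y : Scheme.{u}} [IsLocallyNoetherian X] [IsLocallyNoetherian Y] (g : X ⟶ Y) [LocallyOfFiniteType g]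

omit [IsLocallyNoetherian X] [IsLocallyNoetherian Y] in
/-- A point near which `g` is an open immersion is closed in its fibre. -/
theorem eq_of_specializes_of_openImmersion {p q : X} {W : X.Opens} (hp : p ∈ W) [IsOpenImmersion (W.ι ≫ g)]
    (hpq : p ⤳ q) (he : g q = g p) : q = p := by
  let w : (W : Scheme.{u}) := ⟨p, hp⟩
  have h1 : (W.ι ≫ g).QuasiFiniteAt w := (W.ι ≫ g).quasiFiniteAt w
  have h2 : g.QuasiFiniteAt p := (Scheme.Hom.quasiFiniteAt_comp_iff_of_isOpenImmersion (f := W.ι) (g := g) (x := w)).1 h1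
  have hc := h2.isClopen_singleton_asFiber.1
  let e := g.fiberHomeo (g p)
  let P : (g ⁻¹' {g p} : Set X) := ⟨p, rfl⟩
  let Q : (g ⁻¹' {g p} : Set X) := ⟨q, he⟩
  have hPQ : P ⤳ Q := Topology.IsInducing.subtypeVal.specializes_iff.1 hpq
  have h3 := hc.closure_subset_iff.2 (subset_rfl (a := {g.asFiber p})) (specializes_iff_mem_closure.1 (hPQ.map e.symm.continuous))
  have h4 : Q = P := e.symm.injective h3
  exact congrArg Subtype.val h4

theorem dim_le_one_or_isolated_locus [IrreducibleSpace ↥X]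
    (hW : ∀ y : ↥Y, (∀ U : (Spec (Y.presheaf.stalk y)).Opens, ∀ hU : U ≤ FEt.puncturedSpec ↑(Y.presheaf.stalk y),
        (∀ T ∈ irreducibleComponents ↥(FEt.puncturedSpec ↑(Y.presheaf.stalk y)), ¬ Subtype.val '' T ⊆ (U : Set _)) →
        IsAffineHom ((Spec (Y.presheaf.stalk y)).homOfLE hU) → IsAffineOpen U))
    (z : ↥X) (hz : ¬ ∃ W : X.Opens, z ∈ W ∧ IsLocalIso (W.ι ≫ g))
    (hmax : ∀ z' : ↥X, (¬ ∃ W : X.Opens, z' ∈ W ∧ IsLocalIso (W.ι ≫ g)) → z' ⤳ z → z' = z) :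
    ringKrullDim ↑(X.presheaf.stalk z) ≤ 1 ∨
      ∃ O : X.Opens, z ∈ O ∧ ∀ z' : ↥X, z' ∈ O → g z' = g z → z' = z := by
  classical
  let L : X.Opens := ⨆ W : {W : X.Opens // IsLocalIso (W.ι ≫ g)}, W.1
  have hL : ∀ x, x ∈ L ↔ ∃ W : X.Opens, x ∈ W ∧ IsLocalIso (W.ι ≫ g) := fun x =>
    Opens.mem_iSup.trans ⟨fun ⟨W, hx⟩ => ⟨W.1, hx, W.2⟩, fun ⟨W, hx, h⟩ => ⟨⟨W, h⟩, hx⟩⟩
  have hLoi : ∀ x ∈ L, ∃ W : X.Opens, x ∈ W ∧ IsOpenImmersion (W.ι ≫ g) := by
    intro x hx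
    obtain ⟨W, hxW, hW⟩ := (hL x).1 hx
    obtain ⟨U, hxU, hU⟩ := hW.exists_isOpenImmersion ⟨x, hxW⟩
    refine ⟨W.ι ''ᵁ U, ⟨⟨x, hxW⟩, hxU, rfl⟩, ?_⟩
    haveI := hU
    rw [show (W.ι ''ᵁ U).ι ≫ g = (W.ι.isoImage U).inv ≫ U.ι ≫ W.ι ≫ g by simp]
    infer_instance
  have hzL : z ∉ L := fun h => hz ((hL z).1 h)
  by_cases hη : genericPoint X ∈ L
  swap
  · left
    have he : genericPoint X = z :=
      hmax _ (fun h => hη ((hL _).2 h)) ((genericPoint_spec X).specializes trivial)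
    rw [ringKrullDim_stalk_eq_coheight]
    have h0 : Order.coheight z = 0 := Order.coheight_eq_zero.2 fun x _ => by
      refine Scheme.le_iff_specializes.2 ?_
      rw [← he]
      exact (genericPoint_spec X).specializes trivial
    rw [h0]
    exact zero_le_one
  let y := g z
  obtain ⟨_, ⟨V, hV, rfl⟩, hyV, -⟩ :=
    Y.isBasis_affineOpens.exists_subset_of_mem_open (Set.mem_univ y) isOpen_univ
  have hV' : IsAffineOpen V := hV
  obtain ⟨_, ⟨O, hO, rfl⟩, hzO, hOV⟩ := X.isBasis_affineOpens.exists_subset_of_mem_open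
    (show z ∈ ((g ⁻¹ᵁ V : X.Opens) : Set X) from hyV) (g ⁻¹ᵁ V).isOpen
  have hO' : IsAffineOpen O := hO
  haveI : IsNoetherianRing Γ(X, O) := IsLocallyNoetherian.component_noetherian ⟨O, hO'⟩
  haveI : IsAffine (Scheme.Opens.toScheme O) := hO'
  haveI : IsAffine (Scheme.Opens.toScheme V) := hV'
  haveI : NoetherianSpace (Scheme.Opens.toScheme O) := noetherianSpace_of_isAffineOpen O hO'
  let j := Scheme.Opens.ι O
  obtain ⟨S, hSfin, hSc, hSi, hS⟩ := NoetherianSpace.exists_finite_set_isClosed_irreducible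
    (α := Scheme.Opens.toScheme O) (s := ((j ⁻¹ᵁ L : (Scheme.Opens.toScheme O).Opens) : Set _)ᶜ)
    (j ⁻¹ᵁ L).isOpen.isClosed_compl
  let z₀ : Scheme.Opens.toScheme O := ⟨z, hzO⟩
  let bad : Set (Scheme.Opens.toScheme O) := ⋃ t ∈ {t ∈ S | z₀ ∉ t}, t
  have hbad : IsClosed bad := (hSfin.subset fun t ht => ht.1).isClosed_biUnion fun t ht => hSc t ht.1
  let O₀ : X.Opens := j ''ᵁ ⟨badᶜ, hbad.isOpen_compl⟩
  have hzO₀ : z ∈ O₀ := ⟨z₀, fun h => by
    obtain ⟨t, ht, hzt⟩ := Set.mem_iUnion₂.1 h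
    exact ht.2 hzt, rfl⟩
  have hout : ∀ x ∈ O₀, x ∉ L → z ⤳ x := by
    rintro _ ⟨a, ha, rfl⟩ hxL
    have hmem : a ∈ ((j ⁻¹ᵁ L : (Scheme.Opens.toScheme O).Opens) : Set _)ᶜ := hxL
    rw [hS] at hmem
    obtain ⟨t, htS, hat⟩ := hmem
    have hzt : z₀ ∈ t := by
      by_contra hzt
      exact ha (Set.mem_iUnion₂.2 ⟨t, ⟨htS, hzt⟩, hat⟩)
    obtain ⟨c, hc⟩ := QuasiSober.sober (hSi t htS) (hSc t htS)
    have hcL : j c ∉ L := by
      have h1 : c ∈ ((j ⁻¹ᵁ L : (Scheme.Opens.toScheme O).Opens) : Set _)ᶜ := by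
        rw [hS]; exact ⟨t, htS, hc.mem⟩
      exact h1
    have hcz : j c = z := hmax _ (fun h => hcL ((hL _).2 h)) ((hc.specializes hzt).map j.continuous)
    rw [← hcz]
    exact (hc.specializes hat).map j.continuous
  let V₀ : X.Opens := O₀ ⊓ L
  have hO₀O : O₀ ≤ O := by rintro _ ⟨a, -, rfl⟩; exact a.2
  haveI : IsOpenImmersion (V₀.ι ≫ g) := by
    haveI : Nonempty V₀ := ⟨⟨genericPoint X,
      ((genericPoint_spec X).mem_open_set_iff O₀.isOpen).2 (by simpa using ⟨z, hzO₀⟩), hη⟩⟩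
    haveI : IrreducibleSpace (V₀ : Scheme.{u}) :=
      { V₀.ι.isOpenEmbedding.preirreducibleSpace with toNonempty := ‹_› }
    have hV₀O : V₀ ≤ O := fun x hx => hO₀O hx.1
    have hV₀V : V₀ ≤ g ⁻¹ᵁ V := fun x hx => hOV (hV₀O hx)
    haveI : IsSeparated (V₀.ι ≫ g) := by
      rw [← Scheme.Hom.resLE_comp_ι g hV₀V]
      have hOV' : O ≤ g ⁻¹ᵁ V := hOV
      have h1 : g.resLE V V₀ hV₀V = X.homOfLE hV₀O ≫ g.resLE V O hOV' :=
        (Scheme.Hom.map_resLE g hOV' hV₀O).symm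
      rw [h1]
      infer_instance
    refine SchLocX.isOpenImmersion_of_isLocalIso (V₀.ι ≫ g) fun a => ?_
    obtain ⟨W, haW, hW⟩ := hLoi a.1 a.2.2
    refine ⟨V₀.ι ⁻¹ᵁ W, haW, ?_⟩
    haveI := hW
    rw [← Category.assoc, ← morphismRestrict_ι, Category.assoc]
    infer_instance
  have hfib : ∀ p : X, g p = y → p ∈ L → p ⤳ z → p = z := by
    intro p hp hpL hpz
    obtain ⟨W, hpW, hW⟩ := hLoi p hpL
    haveI := hW
    exact (eq_of_specializes_of_openImmersion g hpW hpz hp.symm).symm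
  rcases dim_le_one_or_isolated_aux g (y := y) O₀ V₀
      (fun x hx hxV => (hout x hx fun h => hxV ⟨hx, h⟩).map g.continuous) (hW y) z hzO₀ rfl
      (fun z' hz' hsp => by
        by_cases hzL' : z' ∈ L
        · exact hfib z' hz' hzL' hsp
        · exact hmax z' (fun h => hzL' ((hL _).2 h)) hsp) with h | ⟨O', hzO', hO''⟩
  · exact Or.inl h
  right
  by_cases hp : ∃ p ∈ O' ⊓ O₀, p ∈ L ∧ g p = y
  · obtain ⟨p, hpO, hpL, hpy⟩ := hp
    refine ⟨(O' ⊓ O₀) ⊓ ⟨(closure {p})ᶜ, isClosed_closure.isOpen_compl⟩, ⟨⟨hzO', hzO₀⟩, fun h => ?_⟩, fun z' hz' hy' => ?_⟩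
    · exact hzL ((hfib p hpy hpL (specializes_iff_mem_closure.2 h)) ▸ hpL)
    · by_cases hL' : z' ∈ L
      · exfalso
        refine hz'.2 ?_
        let a : (V₀ : Scheme.{u}) := ⟨z', hz'.1.2, hL'⟩
        let b : (V₀ : Scheme.{u}) := ⟨p, hpO.2, hpL⟩
        have hab : a = b := (V₀.ι ≫ g).isOpenEmbedding.injective (by
          rw [Scheme.Hom.comp_apply, Scheme.Hom.comp_apply]
          exact hy'.trans hpy.symm)
        rw [show z' = p from congrArg Subtype.val hab]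
        exact subset_closure rfl
      · exact hO'' z' hz'.1.1 hy' (hout z' hz'.1.2 hL')
  · refine ⟨O' ⊓ O₀, ⟨hzO', hzO₀⟩, fun z' hz' hy' => hO'' z' hz'.1 hy' (hout z' hz'.2 fun h => hp ⟨z', hz', h, hy'⟩)⟩

end Groth.Agent.Para81
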