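import Groth.Agent.Alg6.AssDepth
import Mathlib

/-!
# Regular sequences lifted along an ideal with free layers
-/

set_option autoImplicit false
set_option linter.style.haveILetI false

universe u

open IsLocalRing

namespace Groth.Agent.Para81

variable {A : Type u} [CommRing A] (J : Ideal A)

/-- Elements of `J ^ n` forming a basis of the layer `J ^ n / J ^ (n + 1)` over `A / J`. -/
structure LayerBasis (n : ℕ) where
  r : ℕ
  g : Fin r → A
  mem : ∀ k, g k ∈ J ^ n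
  span : ∀ z ∈ J ^ n, ∃ a : Fin r → A, z - ∑ k, a k * g k ∈ J ^ (n + 1)
  indep : ∀ a : Fin r → A, ∑ k, a k * g k ∈ J ^ (n + 1) → ∀ k, a k ∈ J

theorem layerBasis_of_free [IsNoetherianRing A] (hJ : J ≠ ⊤) (n : ℕ)
    (h : Module.Free (A ⧸ J) (↥(J ^ n) ⧸ (J • (⊤ : Submodule A ↥(J ^ n))))) :
    Nonempty (LayerBasis J n) := by
  classical
  let Q := ↥(J ^ n) ⧸ (J • (⊤ : Submodule A ↥(J ^ n)))
  haveI : Nontrivial (A ⧸ J) := Ideal.Quotient.nontrivial_iff.2 hJ
  haveI : Module.Finite (A ⧸ J) Q := Module.Finite.of_restrictScalars_finite A (A ⧸ J) Q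
  let ι := Module.Free.ChooseBasisIndex (A ⧸ J) Q
  let b : Module.Basis ι (A ⧸ J) Q := Module.Free.chooseBasis (A ⧸ J) Q
  haveI : Fintype ι := Fintype.ofFinite ι
  let e : ι ≃ Fin (Fintype.card ι) := Fintype.equivFin ι
  let b' := b.reindex e
  choose g hg using fun k => Submodule.Quotient.mk_surjective _ (b' k)
  have hJn : ∀ z : ↥(J ^ n), z ∈ (J • (⊤ : Submodule A ↥(J ^ n))) ↔ (z : A) ∈ J ^ (n + 1) := by
    intro z
    have e1 : Submodule.map (J ^ n).subtype (J • (⊤ : Submodule A ↥(J ^ n))) = J ^ (n + 1) := by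
      rw [Submodule.map_smul'', Submodule.map_top, Submodule.range_subtype, pow_succ', smul_eq_mul]
    rw [← e1]
    refine ⟨fun hz => Submodule.mem_map_of_mem hz, ?_⟩
    rintro ⟨z', hz', e'⟩
    exact (Subtype.ext e' : z' = z) ▸ hz'
  have hsum : ∀ a : Fin (Fintype.card ι) → A,
      (Submodule.Quotient.mk (∑ k, a k • g k) : Q) = ∑ k, Ideal.Quotient.mk J (a k) • b' k := by
    intro a
    rw [← Submodule.mkQ_apply, map_sum]
    refine Finset.sum_congr rfl fun k _ => ?_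
    rw [map_smul, Submodule.mkQ_apply, hg]
    exact (algebraMap_smul (A ⧸ J) (a k) (b' k)).symm
  refine ⟨⟨_, fun k => (g k : A), fun k => (g k).2, fun z hz => ?_, fun a ha k => ?_⟩⟩
  · choose a ha using fun k => Ideal.Quotient.mk_surjective (b'.repr (Submodule.Quotient.mk ⟨z, hz⟩) k)
    refine ⟨a, ?_⟩
    have h1 : (Submodule.Quotient.mk (⟨z, hz⟩ - ∑ k, a k • g k) : Q) = 0 := by
      rw [Submodule.Quotient.mk_sub, hsum, sub_eq_zero]
      conv_lhs => rw [← b'.sum_repr (Submodule.Quotient.mk ⟨z, hz⟩)]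
      simp only [ha]
    rw [Submodule.Quotient.mk_eq_zero, hJn] at h1
    simpa using h1
  · have h1 : (Submodule.Quotient.mk (∑ k, a k • g k) : Q) = 0 := by
      rw [Submodule.Quotient.mk_eq_zero, hJn]
      simpa using ha
    rw [hsum] at h1
    exact Ideal.Quotient.eq_zero_iff_mem.1 (Fintype.linearIndependent_iff.1 b'.linearIndependent _ h1 k)

/-- A sequence of three elements regular on `A / J`. -/
structure Reg3 (x y w : A) : Prop where
  r1 : ∀ a, x * a ∈ J → a ∈ J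
  r2 : ∀ a, y * a ∈ Ideal.span {x} ⊔ J → a ∈ Ideal.span {x} ⊔ J
  r3 : ∀ a, w * a ∈ Ideal.span {x, y} ⊔ J → a ∈ Ideal.span {x, y} ⊔ J

variable {J}

theorem mem_span_sup_iff {x a : A} : a ∈ Ideal.span {x} ⊔ J ↔ ∃ c, a - c * x ∈ J := by
  rw [Submodule.mem_sup]
  constructor
  · rintro ⟨u, hu, v, hv, rfl⟩
    obtain ⟨c, rfl⟩ := Ideal.mem_span_singleton'.1 hu
    exact ⟨c, by simpa using hv⟩
  · rintro ⟨c, hc⟩
    exact ⟨c * x, Ideal.mem_span_singleton'.2 ⟨c, rfl⟩, _, hc, by ring⟩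

theorem mem_span_pair_sup_iff {x y a : A} : a ∈ Ideal.span {x, y} ⊔ J ↔ ∃ c d, a - c * x - d * y ∈ J := by
  rw [Submodule.mem_sup]
  constructor
  · rintro ⟨u, hu, v, hv, rfl⟩
    obtain ⟨c, d, rfl⟩ := Ideal.mem_span_pair.1 hu
    exact ⟨c, d, by simpa [sub_sub] using hv⟩
  · rintro ⟨c, d, hcd⟩
    exact ⟨c * x + d * y, Ideal.mem_span_pair.2 ⟨c, d, rfl⟩, _, hcd, by ring⟩

variable {x y w : A}

theorem layer1 {n : ℕ} (L : LayerBasis J n) (h : Reg3 J x y w) {z : A} (hz : z ∈ J ^ n)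
    (hxz : x * z ∈ J ^ (n + 1)) : z ∈ J ^ (n + 1) := by
  obtain ⟨a, ha⟩ := L.span z hz
  have h1 : ∑ k, (x * a k) * L.g k ∈ J ^ (n + 1) := by
    have := sub_mem hxz (Ideal.mul_mem_left _ x ha)
    rw [mul_sub, sub_sub_cancel, Finset.mul_sum] at this
    simpa only [mul_assoc] using this
  have h2 : ∑ k, a k * L.g k ∈ J ^ (n + 1) := sum_mem fun k _ => by
    rw [pow_succ']
    exact Ideal.mul_mem_mul (h.r1 _ (L.indep _ h1 k)) (L.mem k)
  simpa using add_mem ha h2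

theorem layer2 {n : ℕ} (L : LayerBasis J n) (h : Reg3 J x y w) {z c : A} (hz : z ∈ J ^ n) (hc : c ∈ J ^ n)
    (hyz : y * z + x * c ∈ J ^ (n + 1)) : ∃ d ∈ J ^ n, z - x * d ∈ J ^ (n + 1) := by
  obtain ⟨a, ha⟩ := L.span z hz
  obtain ⟨b, hb⟩ := L.span c hc
  have h1 : ∑ k, (y * a k + x * b k) * L.g k ∈ J ^ (n + 1) := by
    have := sub_mem hyz (add_mem (Ideal.mul_mem_left _ y ha) (Ideal.mul_mem_left _ x hb))
    refine (congrArg (· ∈ J ^ (n + 1)) ?_).mp this
    simp only [add_mul, Finset.sum_add_distrib, mul_assoc, ← Finset.mul_sum]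
    ring
  choose e he using fun k => mem_span_sup_iff.1 (h.r2 (a k) (mem_span_sup_iff.2
    ⟨-b k, by simpa [mul_comm] using L.indep _ h1 k⟩))
  refine ⟨∑ k, e k * L.g k, sum_mem fun k _ => Ideal.mul_mem_left _ _ (L.mem k), ?_⟩
  have h2 : ∑ k, (a k - e k * x) * L.g k ∈ J ^ (n + 1) := sum_mem fun k _ => by
    rw [pow_succ']
    exact Ideal.mul_mem_mul (he k) (L.mem k)
  refine (congrArg (· ∈ J ^ (n + 1)) ?_).mp (add_mem ha h2)
  simp only [sub_mul, Finset.sum_sub_distrib, Finset.mul_sum, mul_assoc, mul_left_comm x]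
  ring

theorem layer3 {n : ℕ} (L : LayerBasis J n) (h : Reg3 J x y w) {z c d : A} (hz : z ∈ J ^ n) (hc : c ∈ J ^ n)
    (hd : d ∈ J ^ n) (hwz : w * z + x * c + y * d ∈ J ^ (n + 1)) :
    ∃ c' ∈ J ^ n, ∃ d' ∈ J ^ n, z - x * c' - y * d' ∈ J ^ (n + 1) := by
  obtain ⟨a, ha⟩ := L.span z hz
  obtain ⟨b, hb⟩ := L.span c hc
  obtain ⟨b', hb'⟩ := L.span d hd
  have h1 : ∑ k, (w * a k + x * b k + y * b' k) * L.g k ∈ J ^ (n + 1) := by
    have := sub_mem hwz (add_mem (add_mem (Ideal.mul_mem_left _ w ha) (Ideal.mul_mem_left _ x hb))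
      (Ideal.mul_mem_left _ y hb'))
    refine (congrArg (· ∈ J ^ (n + 1)) ?_).mp this
    simp only [add_mul, Finset.sum_add_distrib, mul_assoc, ← Finset.mul_sum]
    ring
  choose e e' he using fun k => mem_span_pair_sup_iff.1 (h.r3 (a k) (mem_span_pair_sup_iff.2
    ⟨-b k, -b' k, by
      refine (congrArg (· ∈ J) ?_).mp (L.indep _ h1 k)
      ring⟩))
  refine ⟨∑ k, e k * L.g k, sum_mem fun k _ => Ideal.mul_mem_left _ _ (L.mem k),
    ∑ k, e' k * L.g k, sum_mem fun k _ => Ideal.mul_mem_left _ _ (L.mem k), ?_⟩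
  have h2 : ∑ k, (a k - e k * x - e' k * y) * L.g k ∈ J ^ (n + 1) := sum_mem fun k _ => by
    rw [pow_succ']
    exact Ideal.mul_mem_mul (he k) (L.mem k)
  refine (congrArg (· ∈ J ^ (n + 1)) ?_).mp (add_mem ha h2)
  simp only [sub_mul, Finset.sum_sub_distrib, Finset.mul_sum, mul_assoc, mul_left_comm x, mul_left_comm y]
  ring

section Iterate

variable (L : ∀ n, LayerBasis J n) (h : Reg3 J x y w)
include L h

theorem mem_pow_of_x {n : ℕ} {a : A} (ha : x * a ∈ J ^ n) : a ∈ J ^ n := by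
  induction n with
  | zero => simp
  | succ k ih => exact layer1 (L k) h (ih (Ideal.pow_le_pow_right k.le_succ ha)) ha

theorem exists_pair {n : ℕ} {a b : A} (hab : x * a + y * b ∈ J ^ n) :
    ∀ k ≤ n, ∃ a' ∈ J ^ k, ∃ b' ∈ J ^ k, x * a + y * b = x * a' + y * b' := by
  intro k
  induction k with
  | zero => exact fun _ => ⟨a, by simp, b, by simp, rfl⟩
  | succ k ih =>
    intro hk
    obtain ⟨a', ha', b', hb', e⟩ := ih (Nat.le_of_succ_le hk)
    have h1 : x * a' + y * b' ∈ J ^ (k + 1) := Ideal.pow_le_pow_right hk (e ▸ hab)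
    obtain ⟨d, hd, hd'⟩ := layer2 (L k) h hb' ha' ((add_comm (x * a') (y * b')) ▸ h1)
    refine ⟨a' + y * d, ?_, b' - x * d, hd', by rw [e]; ring⟩
    refine layer1 (L k) h (add_mem ha' (Ideal.mul_mem_left _ _ hd)) ?_
    refine (congrArg (· ∈ J ^ (k + 1)) ?_).mp (sub_mem h1 (Ideal.mul_mem_left _ y hd'))
    ring

theorem exists_x {n : ℕ} {a : A} (ha : y * a ∈ Ideal.span {x}) :
    ∀ k ≤ n, ∃ a' ∈ J ^ k, a - a' ∈ Ideal.span {x} := by
  intro k
  induction k with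
  | zero => exact fun _ => ⟨a, by simp, by simp⟩
  | succ k ih =>
    intro hk
    obtain ⟨a', ha', e⟩ := ih (Nat.le_of_succ_le hk)
    obtain ⟨c, hc⟩ := Ideal.mem_span_singleton'.1 (sub_mem ha (Ideal.mul_mem_left _ y e))
    rw [mul_sub, sub_sub_cancel] at hc
    have hxc : x * c ∈ J ^ k := by rw [mul_comm, hc]; exact Ideal.mul_mem_left _ _ ha'
    have h0 : y * a' + x * -c ∈ J ^ (k + 1) := by
      rw [show y * a' + x * -c = 0 by rw [← hc]; ring]; exact zero_mem _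
    obtain ⟨d, -, hd⟩ := layer2 (L k) h ha' (neg_mem (mem_pow_of_x L h hxc)) h0
    refine ⟨a' - x * d, hd, ?_⟩
    have := add_mem e (Ideal.mem_span_singleton'.2 ⟨d, rfl⟩ : d * x ∈ Ideal.span {x})
    refine (congrArg (· ∈ Ideal.span {x}) ?_).mp this
    ring

theorem exists_xy {n : ℕ} {a : A} (ha : w * a ∈ Ideal.span {x, y}) :
    ∀ k ≤ n, ∃ a' ∈ J ^ k, a - a' ∈ Ideal.span {x, y} := by
  intro k
  induction k with
  | zero => exact fun _ => ⟨a, by simp, by simp⟩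
  | succ k ih =>
    intro hk
    obtain ⟨a', ha', e⟩ := ih (Nat.le_of_succ_le hk)
    obtain ⟨c, d, hcd⟩ := Ideal.mem_span_pair.1 (sub_mem ha (Ideal.mul_mem_left _ w e))
    rw [mul_sub, sub_sub_cancel] at hcd
    have hxy : x * c + y * d ∈ J ^ k := by
      rw [show x * c + y * d = w * a' by rw [← hcd]; ring]; exact Ideal.mul_mem_left _ _ ha'
    obtain ⟨c₁, hc₁, d₁, hd₁, e₁⟩ := exists_pair L h hxy k le_rfl
    have h0 : w * a' + x * -c₁ + y * -d₁ ∈ J ^ (k + 1) := by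
      rw [show w * a' + x * -c₁ + y * -d₁ = 0 by linear_combination -hcd + e₁]; exact zero_mem _
    obtain ⟨c₂, -, d₂, -, hd⟩ := layer3 (L k) h ha' (neg_mem hc₁) (neg_mem hd₁) h0
    refine ⟨a' - x * c₂ - y * d₂, hd, ?_⟩
    have := add_mem e (Ideal.mem_span_pair.2 ⟨c₂, d₂, rfl⟩ : c₂ * x + d₂ * y ∈ Ideal.span {x, y})
    refine (congrArg (· ∈ Ideal.span {x, y}) ?_).mp this
    ring

theorem three_le_depth [IsNoetherianRing A] [IsLocalRing A] (hJ : J ≠ ⊤) (hx : x ∈ maximalIdeal A)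
    (hy : y ∈ maximalIdeal A) (hw : w ∈ maximalIdeal A) : (3 : ℕ∞) ≤ LocCoh.depth A A := by
  have key : ∀ (I : Ideal A), I ≠ ⊤ → ∀ a : A, (∀ k, ∃ a' ∈ J ^ k, a - a' ∈ I) → a ∈ I := by
    intro I hI a ha
    haveI : Nontrivial (A ⧸ I) := Ideal.Quotient.nontrivial_iff.2 hI
    haveI : IsLocalRing (A ⧸ I) := IsLocalRing.of_surjective' (Ideal.Quotient.mk I) Ideal.Quotient.mk_surjective
    have hne : J.map (Ideal.Quotient.mk I) ≠ ⊤ := fun h' => by
      have h1 : maximalIdeal (A ⧸ I) = ⊤ := top_le_iff.1 (h' ▸ (Ideal.map_mono (le_maximalIdeal hJ)).trans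
        (map_maximalIdeal_of_surjective _ Ideal.Quotient.mk_surjective).le)
      exact (maximalIdeal.isMaximal (A ⧸ I)).ne_top h1
    have h1 : Ideal.Quotient.mk I a ∈ ⨅ i : ℕ, (J.map (Ideal.Quotient.mk I)) ^ i := by
      rw [Ideal.mem_iInf]
      intro k
      obtain ⟨a', ha', e⟩ := ha k
      rw [← Ideal.map_pow, Ideal.Quotient.eq.2 e]
      exact Ideal.mem_map_of_mem _ ha'
    rw [Ideal.iInf_pow_eq_bot_of_isLocalRing _ hne, Ideal.mem_bot, Ideal.Quotient.eq_zero_iff_mem] at h1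
    exact h1
  have hI1 : Ideal.span {x} ≠ ⊤ := fun h' => (maximalIdeal.isMaximal A).ne_top
    (top_le_iff.1 (h' ▸ (Ideal.span_singleton_le_iff_mem _).2 hx))
  have hI2 : Ideal.span {x, y} ≠ ⊤ := fun h' => (maximalIdeal.isMaximal A).ne_top
    (top_le_iff.1 (h' ▸ Ideal.span_le.2 (by rintro z (rfl | rfl) <;> assumption)))
  have hI0 : (⊥ : Ideal A) ≠ ⊤ := bot_ne_top
  have q1 : ∀ a, x * a = 0 → a = 0 := fun a ha => Ideal.mem_bot.1 (key ⊥ hI0 a fun k =>
    ⟨a, mem_pow_of_x L h (by rw [ha]; exact zero_mem _), by simp⟩)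
  have hseq : RingTheory.Sequence.IsWeaklyRegular A [x, y, w] := by
    refine ⟨fun i hi => ?_⟩
    rw [isSMulRegular_quotient_iff_mem_of_smul_mem]
    intro a ha
    match i, hi with
    | 0, _ =>
      simp only [List.take_zero, Ideal.ofList_nil, Ideal.bot_mul, Submodule.mem_bot,
        List.getElem_cons_zero, smul_eq_mul] at ha ⊢
      exact q1 a ha
    | 1, _ =>
      simp only [List.take_succ_cons, List.take_zero, Ideal.ofList_singleton, smul_eq_mul, Ideal.mul_top,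
        List.getElem_cons_succ, List.getElem_cons_zero] at ha ⊢
      exact key _ hI1 a fun k => exists_x L h ha k le_rfl
    | 2, _ =>
      simp only [List.take_succ_cons, List.take_zero, Ideal.ofList_cons, Ideal.ofList_nil, sup_bot_eq,
        smul_eq_mul, Ideal.mul_top, List.getElem_cons_succ, List.getElem_cons_zero,
        ← Ideal.span_insert] at ha ⊢
      exact key _ hI2 a fun k => exists_xy L h ha k le_rfl
  have := Alg6.length_le_idealDepth (I := maximalIdeal A) hseq (List.forall_mem_cons.2 ⟨hx, List.forall_mem_cons.2 ⟨hy, List.forall_mem_cons.2 ⟨hw, by simp⟩⟩⟩)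
  simpa [LocCoh.depth] using this

end Iterate

end Groth.Agent.Para81
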