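import Groth.Agent.Para81.LayerDepth

/-!
# Layers of truncations
-/

set_option autoImplicit false
set_option linter.style.haveILetI false

universe u

open IsLocalRing

namespace Groth.Agent.Para81

variable {A : Type u} [CommRing A] {J : Ideal A}

theorem map_pow_mk_iff {N n : ℕ} (hn : n ≤ N) (z : A) :
    Ideal.Quotient.mk (J ^ N) z ∈ (J.map (Ideal.Quotient.mk (J ^ N))) ^ n ↔ z ∈ J ^ n := by
  rw [← Ideal.map_pow, ← Ideal.mem_comap, Ideal.comap_map_of_surjective _ Ideal.Quotient.mk_surjective,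
    ← RingHom.ker_eq_comap_bot, Ideal.mk_ker, sup_eq_left.2 (Ideal.pow_le_pow_right hn)]

theorem map_pow_mk_eq_bot {N n : ℕ} (hn : N ≤ n) : (J.map (Ideal.Quotient.mk (J ^ N))) ^ n = ⊥ := by
  rw [← Ideal.map_pow, eq_bot_iff, Ideal.map_le_iff_le_comap]
  intro z hz
  exact Ideal.mem_comap.2 (Ideal.mem_bot.2 (Ideal.Quotient.eq_zero_iff_mem.2 (Ideal.pow_le_pow_right hn hz)))

/-- Layers of a truncation. -/
theorem layerBasis_quot (L : ∀ n, LayerBasis J n) (N n : ℕ) :
    Nonempty (LayerBasis (J.map (Ideal.Quotient.mk (J ^ N))) n) := by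
  by_cases hn : n < N
  · refine ⟨⟨(L n).r, fun k => Ideal.Quotient.mk _ ((L n).g k),
      fun k => (map_pow_mk_iff hn.le _).2 ((L n).mem k), fun z hz => ?_, fun a ha k => ?_⟩⟩
    · obtain ⟨z, rfl⟩ := Ideal.Quotient.mk_surjective z
      obtain ⟨a, ha⟩ := (L n).span z ((map_pow_mk_iff hn.le _).1 hz)
      exact ⟨fun k => Ideal.Quotient.mk _ (a k), by
        have := (map_pow_mk_iff (J := J) hn _).2 ha
        simpa only [map_sub, map_sum, map_mul] using this⟩
    · choose b hb using fun k => Ideal.Quotient.mk_surjective (a k)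
      simp only [← hb, ← map_mul, ← map_sum] at ha
      rw [← hb k]
      exact Ideal.mem_map_of_mem _ ((L n).indep b ((map_pow_mk_iff hn _).1 ha) k)
  · refine ⟨⟨0, Fin.elim0, fun k => k.elim0, fun z hz => ⟨Fin.elim0, ?_⟩, fun _ _ k => k.elim0⟩⟩
    rw [map_pow_mk_eq_bot (not_lt.1 hn), Ideal.mem_bot] at hz
    simp [hz]

theorem mk_mem_map_iff {I : Ideal A} {N : ℕ} (hN : 1 ≤ N) (hI : J ≤ I) (z : A) :
    Ideal.Quotient.mk (J ^ N) z ∈ I.map (Ideal.Quotient.mk (J ^ N)) ↔ z ∈ I := by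
  rw [← Ideal.mem_comap, Ideal.comap_map_of_surjective _ Ideal.Quotient.mk_surjective,
    ← RingHom.ker_eq_comap_bot, Ideal.mk_ker, sup_eq_left.2 ((Ideal.pow_le_self (by omega)).trans hI)]

theorem Reg3.quot {x y w : A} (h : Reg3 J x y w) {N : ℕ} (hN : 1 ≤ N) :
    Reg3 (J.map (Ideal.Quotient.mk (J ^ N))) (Ideal.Quotient.mk (J ^ N) x) (Ideal.Quotient.mk (J ^ N) y)
      (Ideal.Quotient.mk (J ^ N) w) := by
  have e1 : Ideal.span {Ideal.Quotient.mk (J ^ N) x} ⊔ J.map (Ideal.Quotient.mk (J ^ N)) =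
      (Ideal.span {x} ⊔ J).map (Ideal.Quotient.mk (J ^ N)) := by
    rw [Ideal.map_sup, Ideal.map_span, Set.image_singleton]
  have e2 : Ideal.span {Ideal.Quotient.mk (J ^ N) x, Ideal.Quotient.mk (J ^ N) y} ⊔
      J.map (Ideal.Quotient.mk (J ^ N)) = (Ideal.span {x, y} ⊔ J).map (Ideal.Quotient.mk (J ^ N)) := by
    rw [Ideal.map_sup, Ideal.map_span, Set.image_pair]
  constructor
  · intro a
    obtain ⟨a, rfl⟩ := Ideal.Quotient.mk_surjective a
    rw [← map_mul, mk_mem_map_iff hN le_rfl, mk_mem_map_iff hN le_rfl]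
    exact h.r1 a
  · intro a
    obtain ⟨a, rfl⟩ := Ideal.Quotient.mk_surjective a
    rw [← map_mul, e1, mk_mem_map_iff hN le_sup_right, mk_mem_map_iff hN le_sup_right]
    exact h.r2 a
  · intro a
    obtain ⟨a, rfl⟩ := Ideal.Quotient.mk_surjective a
    rw [← map_mul, e2, mk_mem_map_iff hN le_sup_right, mk_mem_map_iff hN le_sup_right]
    exact h.r3 a

theorem exists_reg3 [IsNoetherianRing A] [IsLocalRing A] [IsLocalRing (A ⧸ J)]
    (hd : (3 : ℕ∞) ≤ LocCoh.depth (A ⧸ J) (A ⧸ J)) :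
    ∃ x y w : A, x ∈ maximalIdeal A ∧ y ∈ maximalIdeal A ∧ w ∈ maximalIdeal A ∧ Reg3 J x y w := by
  have hne : maximalIdeal (A ⧸ J) • (⊤ : Submodule (A ⧸ J) (A ⧸ J)) ≠ ⊤ := Alg6.maximal_smul_top_ne_top
  obtain ⟨rs, hrs, hmem, hlen⟩ := Alg6.exists_length_ge_of_le_idealDepth hne (n := 3) (by exact_mod_cast hd)
  match rs, hlen with
  | a :: b :: c :: rest, _ =>
    obtain ⟨x, rfl⟩ := Ideal.Quotient.mk_surjective a
    obtain ⟨y, rfl⟩ := Ideal.Quotient.mk_surjective b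
    obtain ⟨w, rfl⟩ := Ideal.Quotient.mk_surjective c
    have hm : ∀ z : A, Ideal.Quotient.mk J z ∈ maximalIdeal (A ⧸ J) → z ∈ maximalIdeal A := fun z hz hu =>
      hz (hu.map _)
    have hcm : ∀ (I : Ideal A) (z : A), Ideal.Quotient.mk J z ∈ I.map (Ideal.Quotient.mk J) ↔ z ∈ I ⊔ J :=
      fun I z => by
        rw [← Ideal.mem_comap, Ideal.comap_map_of_surjective _ Ideal.Quotient.mk_surjective,
          ← RingHom.ker_eq_comap_bot, Ideal.mk_ker]
    refine ⟨x, y, w, hm x (hmem _ (by simp)), hm y (hmem _ (by simp)), hm w (hmem _ (by simp)), ⟨?_, ?_, ?_⟩⟩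
    · intro d hd
      have h0 := (isSMulRegular_quotient_iff_mem_of_smul_mem _ _).1 (hrs.regular_mod_prev 0 (by simp))
        (Ideal.Quotient.mk J d)
      simp only [List.take_zero, Ideal.ofList_nil, Ideal.bot_mul, Submodule.mem_bot, List.getElem_cons_zero,
        smul_eq_mul, ← map_mul, Ideal.Quotient.eq_zero_iff_mem] at h0
      exact h0 hd
    · intro d hd
      have h0 := (isSMulRegular_quotient_iff_mem_of_smul_mem _ _).1 (hrs.regular_mod_prev 1 (by simp))
        (Ideal.Quotient.mk J d)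
      simp only [List.take_succ_cons, List.take_zero, Ideal.ofList_singleton, smul_eq_mul, Ideal.mul_top,
        List.getElem_cons_succ, List.getElem_cons_zero, ← map_mul] at h0
      have e : (Ideal.span {x}).map (Ideal.Quotient.mk J) = Ideal.span {Ideal.Quotient.mk J x} := by
        rw [Ideal.map_span, Set.image_singleton]
      rw [← hcm, e] at hd ⊢
      exact h0 hd
    · intro d hd
      have h0 := (isSMulRegular_quotient_iff_mem_of_smul_mem _ _).1 (hrs.regular_mod_prev 2 (by simp))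
        (Ideal.Quotient.mk J d)
      simp only [List.take_succ_cons, List.take_zero, Ideal.ofList_cons, Ideal.ofList_nil, sup_bot_eq,
        smul_eq_mul, Ideal.mul_top, List.getElem_cons_succ, List.getElem_cons_zero, ← map_mul,
        ← Ideal.span_insert] at h0
      have e : (Ideal.span {x, y}).map (Ideal.Quotient.mk J) =
          Ideal.span {Ideal.Quotient.mk J x, Ideal.Quotient.mk J y} := by
        rw [Ideal.map_span, Set.image_pair]
      rw [← hcm, e] at hd ⊢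
      exact h0 hd

theorem three_le_depth_quot [IsNoetherianRing A] [IsLocalRing A] (hJ : J ≠ ⊤) (L : ∀ n, LayerBasis J n)
    [IsLocalRing (A ⧸ J)] (hd : (3 : ℕ∞) ≤ LocCoh.depth (A ⧸ J) (A ⧸ J)) {N : ℕ} (hN : 1 ≤ N)
    [IsLocalRing (A ⧸ J ^ N)] : (3 : ℕ∞) ≤ LocCoh.depth (A ⧸ J ^ N) (A ⧸ J ^ N) := by
  obtain ⟨x, y, w, hx, hy, hw, h⟩ := exists_reg3 hd
  have hm : ∀ z ∈ maximalIdeal A, Ideal.Quotient.mk (J ^ N) z ∈ maximalIdeal (A ⧸ J ^ N) := fun z hz => by
    rw [← map_maximalIdeal_of_surjective (Ideal.Quotient.mk (J ^ N)) Ideal.Quotient.mk_surjective]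
    exact Ideal.mem_map_of_mem _ hz
  refine three_le_depth (fun n => (layerBasis_quot L N n).some) (h.quot hN) (fun h' => hJ ?_) (hm x hx) (hm y hy)
    (hm w hw)
  rw [Ideal.eq_top_iff_one] at h' ⊢
  exact (mk_mem_map_iff hN le_rfl 1).1 (by rwa [map_one])

theorem three_le_depth_of_layers [IsNoetherianRing A] [IsLocalRing A] (hJ : J ≠ ⊤) (L : ∀ n, LayerBasis J n)
    [IsLocalRing (A ⧸ J)] (hd : (3 : ℕ∞) ≤ LocCoh.depth (A ⧸ J) (A ⧸ J)) :
    (3 : ℕ∞) ≤ LocCoh.depth A A := by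
  obtain ⟨x, y, w, hx, hy, hw, h⟩ := exists_reg3 hd
  exact three_le_depth L h hJ hx hy hw

end Groth.Agent.Para81
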