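import Groth.Agent.Para81.CechOne
import Groth.Agent.Para81.LayerQuot

/-!
# Congruences modulo powers of an ideal on basic opens
-/

set_option autoImplicit false
set_option linter.style.haveILetI false

universe u

open CategoryTheory AlgebraicGeometry TopologicalSpace Opposite IsLocalRing

namespace Groth.Agent.Para81

open Groth.Agent.AModX

section Ring

variable {A : Type u} [CommRing A] {J : Ideal A} {n : ℕ} {S : Type u} [CommRing S] [Algebra A S]

theorem LayerBasis.span_map (L : LayerBasis J n) {z : S} (hz : z ∈ (J ^ n).map (algebraMap A S)) :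
    ∃ a : Fin L.r → S, z - ∑ k, a k * algebraMap A S (L.g k) ∈ (J ^ (n + 1)).map (algebraMap A S) := by
  refine Submodule.span_induction (fun w hw => ?_) ⟨0, by simp⟩ (fun w w' _ _ h h' => ?_) (fun c w _ h => ?_) hz
  · obtain ⟨x, hx, rfl⟩ := hw
    obtain ⟨a, ha⟩ := L.span x hx
    exact ⟨fun k => algebraMap A S (a k), by simpa using Ideal.mem_map_of_mem (algebraMap A S) ha⟩
  · obtain ⟨a, ha⟩ := h
    obtain ⟨a', ha'⟩ := h'
    refine ⟨a + a', ?_⟩
    have := add_mem ha ha'
    simp only [Pi.add_apply, add_mul, Finset.sum_add_distrib]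
    rwa [sub_add_sub_comm] at this
  · obtain ⟨a, ha⟩ := h
    refine ⟨fun k => c * a k, ?_⟩
    have := Ideal.mul_mem_left _ c ha
    simpa only [smul_eq_mul, mul_sub, Finset.mul_sum, mul_assoc] using this

theorem LayerBasis.indep_map (L : LayerBasis J n) (M : Submonoid A) [IsLocalization M S] (a : Fin L.r → S)
    (h : ∑ k, a k * algebraMap A S (L.g k) ∈ (J ^ (n + 1)).map (algebraMap A S)) (k : Fin L.r) :
    a k ∈ J.map (algebraMap A S) := by
  obtain ⟨b, hb⟩ := IsLocalization.exist_integer_multiples_of_finite M a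
  choose c hc using hb
  have hsum : algebraMap A S (∑ k, c k * L.g k) ∈ (J ^ (n + 1)).map (algebraMap A S) := by
    rw [map_sum]
    simp only [map_mul, hc, Algebra.smul_def, mul_assoc, ← Finset.mul_sum]
    exact Ideal.mul_mem_left _ _ h
  obtain ⟨m, hm, hmem⟩ := (IsLocalization.algebraMap_mem_map_algebraMap_iff M S _ _).1 hsum
  rw [Finset.mul_sum] at hmem
  simp only [← mul_assoc] at hmem
  have h1 := Ideal.mem_map_of_mem (algebraMap A S) (L.indep _ hmem k)
  rw [map_mul, hc, Algebra.smul_def, ← mul_assoc] at h1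
  exact ((IsLocalization.map_units S ⟨m, hm⟩).mul (IsLocalization.map_units S b)).unit.isUnit
    |> (Ideal.unit_mul_mem_iff_mem _ ·) |>.1 h1

end Ring

variable {A : CommRingCat.{u}} {J : Ideal A}

/-- The extension of a power of the ideal to the sections over an open. -/
noncomputable abbrev pw (J : Ideal A) (n : ℕ) (U : (Spec A).Opens) : Ideal Γ(Spec A, U) :=
  (J ^ n).map (algebraMap A Γ(Spec A, U))

theorem mul_mem_pw {n m : ℕ} {U : (Spec A).Opens} {z z' : Γ(Spec A, U)} (hz : z ∈ pw J n U)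
    (hz' : z' ∈ pw J m U) : z * z' ∈ pw J (n + m) U := by
  rw [pw, pow_add, Ideal.map_mul]
  exact Ideal.mul_mem_mul hz hz'

theorem pw_mono {n m : ℕ} (h : n ≤ m) {U : (Spec A).Opens} {z : Γ(Spec A, U)} (hz : z ∈ pw J m U) :
    z ∈ pw J n U :=
  Ideal.map_mono (Ideal.pow_le_pow_right h) hz

theorem resR_mem_pw {n : ℕ} {U V : (Spec A).Opens} (h : V ≤ U) {z : Γ(Spec A, U)} (hz : z ∈ pw J n U) :
    resR h z ∈ pw J n V := by
  have := Ideal.mem_map_of_mem (resR h) hz
  rw [Ideal.map_map] at this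
  rwa [show (resR h).comp (algebraMap A Γ(Spec A, U)) = algebraMap A Γ(Spec A, V) from
    RingHom.ext fun a => resR_algebraMap h a] at this

variable {B : CommRingCat.{u}} [Algebra A B]

theorem app_eq_zero_of_mem {I : Ideal A} (hI : ∀ a ∈ I, algebraMap A B a = 0) {U : (Spec A).Opens}
    {z : Γ(Spec A, U)} (hz : z ∈ I.map (algebraMap A Γ(Spec A, U))) : (spMap A B).app U z = 0 := by
  have : I.map (algebraMap A Γ(Spec A, U)) ≤ RingHom.ker ((spMap A B).app U).hom := by
    rw [Ideal.map_le_iff_le_comap]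
    intro a ha
    show (spMap A B).app U (algebraMap A Γ(Spec A, U) a) = 0
    refine (app_algebraMap (CommRingCat.ofHom (algebraMap A B)) U a).trans ?_
    rw [show (CommRingCat.ofHom (algebraMap A B)) a = 0 from hI a ha, map_zero]
  exact this hz

theorem mem_map_of_app_eq_zero {I : Ideal A} (hker : ∀ a : A, algebraMap A B a = 0 → a ∈ I)
    {U : (Spec A).Opens} {g : A} (hU : U = bo g) (z : Γ(Spec A, U)) (hz : (spMap A B).app U z = 0) :
    z ∈ I.map (algebraMap A Γ(Spec A, U)) := by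
  subst hU
  obtain ⟨⟨c, ⟨_, n, rfl⟩⟩, hc⟩ := IsLocalization.surj (M := Submonoid.powers g) (S := Γ(Spec A, bo g)) z
  simp only at hc
  have e : (spMap A B).app (bo g) (algebraMap A Γ(Spec A, bo g) c) =
      algebraMap B Γ(Spec B, bo (algebraMap A B g)) (algebraMap A B c) :=
    app_algebraMap (CommRingCat.ofHom (algebraMap A B)) (bo g) c
  have h0 : algebraMap B Γ(Spec B, bo (algebraMap A B g)) (algebraMap A B c) = 0 := by
    rw [← e, ← hc, map_mul, hz, zero_mul]
    rfl
  obtain ⟨⟨_, k, rfl⟩, hk⟩ := (IsLocalization.map_eq_zero_iff (Submonoid.powers (algebraMap A B g)) _ _).1 h0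
  have h1 := Ideal.mem_map_of_mem (algebraMap A Γ(Spec A, bo g)) (hker (g ^ k * c) (by
    rw [map_mul, map_pow]; exact hk))
  rw [map_mul, ← hc, map_pow, map_pow, mul_left_comm, ← pow_add, mul_comm] at h1
  exact (Ideal.unit_mul_mem_iff_mem _ ((isUnit_algebraMap_of_le (le_refl (bo g))).pow _)).1 h1

theorem exists_lift_bo (hs : Function.Surjective (algebraMap A B)) {U : (Spec A).Opens} {g : A} (hU : U = bo g)
    (z : Γ(Spec B, spMap A B ⁻¹ᵁ U)) : ∃ x : Γ(Spec A, U), (spMap A B).app U x = z := by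
  subst hU
  exact app_surjective hs g z

variable {ι : Type u} (f : ι → A) [IsNoetherianRing A] [IsLocalRing A]

theorem cover_quot [IsLocalRing B] [IsLocalHom (algebraMap A B)] (hs : Function.Surjective (algebraMap A B))
    (hcov : ∀ x : Spec A, x ≠ closedPoint A → ∃ i, x ∈ bo (f i))
    (hle : ∀ i, bo (f i) ≤ FEt.puncturedSpec A) :
    (∀ z : Spec B, z ≠ closedPoint B → ∃ i, z ∈ bo (algebraMap A B (f i))) ∧
      ∀ i, bo (algebraMap A B (f i)) ≤ FEt.puncturedSpec B :=
  ⟨fun z hz => hcov (spMap A B z) fun h => hz (PrimeSpectrum.comap_injective_of_surjective _ hs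
      (h.trans (comap_closedPoint (algebraMap A B)).symm)),
    fun i z hz hz' => hle i (show spMap A B z ∈ bo (f i) from hz)
      ((congrArg (spMap A B) (show z = closedPoint B from hz')).trans (comap_closedPoint (algebraMap A B)))⟩

theorem preimage_punctured_of_surjective [IsLocalRing B] [IsLocalHom (algebraMap A B)]
    (hs : Function.Surjective (algebraMap A B)) :
    spMap A B ⁻¹ᵁ FEt.puncturedSpec A = FEt.puncturedSpec B := by
  ext z
  exact ⟨fun hz hz' => hz ((congrArg (spMap A B) (show z = closedPoint B from hz')).trans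
      (comap_closedPoint (algebraMap A B))),
    fun hz hz' => hz (PrimeSpectrum.comap_injective_of_surjective _ hs
      ((show spMap A B z = closedPoint A from hz').trans (comap_closedPoint (algebraMap A B)).symm))⟩

omit [IsNoetherianRing A] in
theorem isLocalHom_of_surjective [IsLocalRing B] (hs : Function.Surjective (algebraMap A B)) :
    IsLocalHom (algebraMap A B) :=
  ((IsLocalRing.local_hom_TFAE _).out 0 2).mpr (map_maximalIdeal_of_surjective _ hs).le

variable (L : ∀ n, LayerBasis J n) (hJ : J ≠ ⊤) [IsLocalRing (A ⧸ J)]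
  (hd : (3 : ℕ∞) ≤ LocCoh.depth (A ⧸ J) (A ⧸ J))
  (hcovJ : ∀ x : Spec A, x ≠ closedPoint A → J ≤ x.asIdeal → ∃ i, x ∈ bo (f i))

include L hd hcovJ in
theorem mem_pow_of_mem_pw' (N : ℕ) (a : A)
    (ha : ∀ i, algebraMap A Γ(Spec A, bo (f i)) a ∈ pw J N (bo (f i))) : a ∈ J ^ N := by
  rcases N with _ | N
  · simp
  obtain ⟨x, y, w, hxm, -, -, h⟩ := exists_reg3 hd
  let I : Ideal A := (J ^ (N + 1)).colon {a}
  have hpow : ∀ i, ∃ p, f i ^ p ∈ I := fun i => by
    obtain ⟨_, ⟨p, rfl⟩, hp⟩ :=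
      (IsLocalization.algebraMap_mem_map_algebraMap_iff (Submonoid.powers (f i)) _ _ _).1 (ha i)
    exact ⟨p, Submodule.mem_colon_singleton.2 hp⟩
  have hJI : J ^ (N + 1) ≤ I := fun z hz => Submodule.mem_colon_singleton.2 (Ideal.mul_mem_right _ _ hz)
  have hrad : maximalIdeal A ≤ I.radical := by
    rw [Ideal.radical_eq_sInf, le_sInf_iff]
    rintro P ⟨hP, hPp⟩
    by_contra hne
    haveI : P.IsPrime := hPp
    obtain ⟨k, hk⟩ := hcovJ ⟨P, hPp⟩ (fun h' => hne (le_of_eq (congrArg PrimeSpectrum.asIdeal h').symm))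
      fun z hz => hPp.mem_of_pow_mem (N + 1) (hP (hJI (Ideal.pow_mem_pow hz _)))
    obtain ⟨p, hp⟩ := hpow k
    exact hk (hPp.mem_of_pow_mem p (hP hp))
  obtain ⟨p, hp⟩ := hrad hxm
  have hp' : x ^ p * a ∈ J ^ (N + 1) := Submodule.mem_colon_singleton.1 hp
  clear hp
  induction p with
  | zero => simpa using hp'
  | succ p ih => exact ih (mem_pow_of_x L h (by rwa [pow_succ' x p, mul_assoc] at hp'))

variable (hle : ∀ i, bo (f i) ≤ FEt.puncturedSpec A)

include L hJ hd hcovJ hle in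
theorem exists_approx' [Finite ι] {N : ℕ} (hN : 1 ≤ N) (y : ∀ i, Γ(Spec A, bo (f i)))
    (hy : ∀ i j, resR inf_le_left (y i) - resR (inf_le_right : bo (f i) ⊓ bo (f j) ≤ _) (y j) ∈
      pw J N (bo (f i) ⊓ bo (f j))) :
    ∃ a : A, ∀ i, algebraMap A Γ(Spec A, bo (f i)) a - y i ∈ pw J N (bo (f i)) := by
  let B' := CommRingCat.of (A ⧸ J ^ N)
  haveI : Nontrivial (A ⧸ J ^ N) := Ideal.Quotient.nontrivial_iff.2 fun h =>
    hJ (top_le_iff.1 (h ▸ Ideal.pow_le_self (by omega)))
  haveI : IsLocalRing (A ⧸ J ^ N) :=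
    IsLocalRing.of_surjective' (Ideal.Quotient.mk _) Ideal.Quotient.mk_surjective
  haveI : IsLocalRing B' := inferInstanceAs (IsLocalRing (A ⧸ J ^ N))
  haveI : IsNoetherianRing B' := inferInstanceAs (IsNoetherianRing (A ⧸ J ^ N))
  have hs : Function.Surjective (algebraMap A B') := Ideal.Quotient.mk_surjective
  haveI := isLocalHom_of_surjective (A := A) (B := B') hs
  obtain ⟨hcov', hle'⟩ : (∀ z : Spec B', z ≠ closedPoint B' → ∃ i, z ∈ bo (algebraMap A B' (f i))) ∧
      ∀ i, bo (algebraMap A B' (f i)) ≤ FEt.puncturedSpec B' :=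
    ⟨fun z hz => hcovJ (spMap A B' z) (fun h => hz (PrimeSpectrum.comap_injective_of_surjective _ hs
        (h.trans (comap_closedPoint (algebraMap A B')).symm))) fun c hc =>
          (spMap A B' z).isPrime.mem_of_pow_mem N (show algebraMap A B' (c ^ N) ∈ z.asIdeal by
            rw [show algebraMap A B' (c ^ N) = 0 from Ideal.Quotient.eq_zero_iff_mem.2 (Ideal.pow_mem_pow hc N)]
            exact zero_mem _),
      fun i z hz hz' => hle i (show spMap A B' z ∈ bo (f i) from hz)
        ((congrArg (spMap A B') (show z = closedPoint B' from hz')).trans (comap_closedPoint (algebraMap A B')))⟩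
  have hdep : (2 : ℕ∞) ≤ LocCoh.depth B' B' :=
    (show (2 : ℕ∞) ≤ 3 by norm_num).trans (three_le_depth_quot hJ L hd hN)
  have hmem : ∀ a ∈ J ^ N, algebraMap A B' a = 0 := fun a ha => Ideal.Quotient.eq_zero_iff_mem.2 ha
  let π := spMap A B'
  obtain ⟨b, hb⟩ := glue_punctured (R := B') (fun i => algebraMap A B' (f i)) hdep hcov' hle'
    (fun i => π.app (bo (f i)) (y i)) (fun i j => by
      have h1 := app_eq_zero_of_mem hmem (hy i j)
      rw [map_sub, app_resR, app_resR, sub_eq_zero] at h1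
      exact h1)
  obtain ⟨a, rfl⟩ := hs b
  refine ⟨a, fun i => mem_map_of_app_eq_zero (B := B') (fun c hc => Ideal.Quotient.eq_zero_iff_mem.1 hc) rfl _ ?_⟩
  rw [map_sub, sub_eq_zero]
  exact (app_algebraMap (CommRingCat.ofHom (algebraMap A B')) (bo (f i)) a).trans (hb i)

include L hd in
theorem mem_pow_of_mem_pw (hcov : ∀ x : Spec A, x ≠ closedPoint A → ∃ i, x ∈ bo (f i)) (N : ℕ) (a : A)
    (ha : ∀ i, algebraMap A Γ(Spec A, bo (f i)) a ∈ pw J N (bo (f i))) : a ∈ J ^ N :=
  mem_pow_of_mem_pw' f L hd (fun x hx _ => hcov x hx) N a ha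

include L hJ hd in
theorem exists_approx (hcov : ∀ x : Spec A, x ≠ closedPoint A → ∃ i, x ∈ bo (f i))
    (hle : ∀ i, bo (f i) ≤ FEt.puncturedSpec A) [Finite ι] {N : ℕ} (hN : 1 ≤ N) (y : ∀ i, Γ(Spec A, bo (f i)))
    (hy : ∀ i j, resR inf_le_left (y i) - resR (inf_le_right : bo (f i) ⊓ bo (f j) ≤ _) (y j) ∈
      pw J N (bo (f i) ⊓ bo (f j))) :
    ∃ a : A, ∀ i, algebraMap A Γ(Spec A, bo (f i)) a - y i ∈ pw J N (bo (f i)) :=
  exists_approx' f L hJ hd (fun x hx _ => hcov x hx) hle hN y hy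

end Groth.Agent.Para81
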