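import Groth.Agent.Para81.ThickenLocal

/-!
# Trivialisations modulo powers of an ideal of transition functions
-/

set_option autoImplicit false
set_option linter.style.haveILetI false

universe u

open CategoryTheory AlgebraicGeometry TopologicalSpace Opposite IsLocalRing

namespace Groth.Agent.Para81

open Groth.Agent.AModX

variable {A : CommRingCat.{u}} (J : Ideal A) {ι : Type u} (f : ι → A)
  (t : ∀ i j, Γ(Spec A, bo (f i) ⊓ bo (f j)))

/-- The family is a family of transition functions. -/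
structure IsTrans : Prop where
  one : ∀ i, t i i = 1
  mul : ∀ i j k, resR (inf_le_left : bo (f i) ⊓ bo (f j) ⊓ bo (f k) ≤ _) (t i j) *
    resR (le_inf (inf_le_left.trans inf_le_right) inf_le_right) (t j k) =
    resR (le_inf (inf_le_left.trans inf_le_left) inf_le_right) (t i k)

/-- The transposed family. -/
noncomputable def transpFam (i j : ι) : Γ(Spec A, bo (f i) ⊓ bo (f j)) :=
  resR (le_inf inf_le_right inf_le_left) (t j i)

variable {f t}

theorem IsTrans.transp (ht : IsTrans f t) : IsTrans f (transpFam f t) := by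
  refine ⟨fun i => ?_, fun i j k => ?_⟩
  · rw [Para81.transpFam, ht.one, map_one]
  · have hT : bo (f i) ⊓ bo (f j) ⊓ bo (f k) ≤ bo (f k) ⊓ bo (f j) ⊓ bo (f i) :=
      le_inf (le_inf inf_le_right (inf_le_left.trans inf_le_right)) (inf_le_left.trans inf_le_left)
    have h := congrArg (resR hT) (ht.mul k j i)
    rw [map_mul, resR_resR, resR_resR, resR_resR] at h
    rw [Para81.transpFam, Para81.transpFam, Para81.transpFam, resR_resR, resR_resR, resR_resR, ← h, mul_comm]

theorem IsTrans.mul_transp (ht : IsTrans f t) (i j : ι) : t i j * transpFam f t i j = 1 := by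
  have hT : bo (f i) ⊓ bo (f j) ≤ bo (f i) ⊓ bo (f j) ⊓ bo (f i) := le_inf le_rfl inf_le_left
  have h := congrArg (resR hT) (ht.mul i j i)
  rw [ht.one, map_mul, resR_resR, resR_resR, resR_resR, map_one, resR_self] at h
  exact h

variable (f t)

/-- A trivialisation of the transition functions modulo the power `n` of the ideal. -/
structure NearTriv (n : ℕ) (u u' : ∀ i, Γ(Spec A, bo (f i))) : Prop where
  inv : ∀ i, u i * u' i - 1 ∈ pw J n (bo (f i))
  triv : ∀ i j, resR inf_le_left (u i) * t i j * resR inf_le_right (u' j) - 1 ∈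
    pw J n (bo (f i) ⊓ bo (f j))

variable {J f t}

theorem NearTriv.transp {n : ℕ} {u u' : ∀ i, Γ(Spec A, bo (f i))} (h : NearTriv J f t n u u') :
    NearTriv J f (transpFam f t) n u' u := by
  refine ⟨fun i => by rw [mul_comm]; exact h.inv i, fun i j => ?_⟩
  have := resR_mem_pw (le_inf inf_le_right inf_le_left : bo (f i) ⊓ bo (f j) ≤ _) (h.triv j i)
  rw [map_sub, map_mul, map_mul, resR_resR, resR_resR, map_one] at this
  rw [Para81.transpFam]
  refine (congrArg (· ∈ pw J n (bo (f i) ⊓ bo (f j))) ?_).mp this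
  ring

theorem NearTriv.exists_improve {n : ℕ} (hn : 1 ≤ n) {u u' : ∀ i, Γ(Spec A, bo (f i))}
    (h : NearTriv J f t n u u') :
    ∃ u'' : ∀ i, Γ(Spec A, bo (f i)), NearTriv J f t n u u'' ∧
      (∀ i, u i * u'' i - 1 ∈ pw J (n + 1) (bo (f i))) ∧ ∀ i, u'' i - u' i ∈ pw J n (bo (f i)) := by
  refine ⟨fun i => u' i * (2 - u i * u' i), ?_, fun i => ?_, fun i => ?_⟩
  · refine ⟨fun i => ?_, fun i j => ?_⟩
    · have := pw_mono (Nat.le_add_left n n) (mul_mem_pw (h.inv i) (h.inv i))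
      refine (congrArg (· ∈ pw J n (bo (f i))) ?_).mp (neg_mem this)
      ring
    · have h1 := resR_mem_pw (inf_le_right : bo (f i) ⊓ bo (f j) ≤ bo (f j)) (h.inv j)
      rw [map_sub, map_mul, map_one] at h1
      have := sub_mem (h.triv i j) (Ideal.mul_mem_left _
        (resR inf_le_left (u i) * t i j * resR inf_le_right (u' j)) h1)
      refine (congrArg (· ∈ pw J n (bo (f i) ⊓ bo (f j))) ?_).mp this
      rw [map_mul, map_sub, map_mul, map_ofNat]
      ring
  · have := pw_mono (by omega : n + 1 ≤ n + n) (mul_mem_pw (h.inv i) (h.inv i))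
    refine (congrArg (· ∈ pw J (n + 1) (bo (f i))) ?_).mp (neg_mem this)
    ring
  · refine (congrArg (· ∈ pw J n (bo (f i))) ?_).mp (neg_mem (Ideal.mul_mem_left _ (u' i) (h.inv i)))
    ring

variable [IsNoetherianRing A] [IsLocalRing A] [Finite ι] [IsLocalRing (A ⧸ J)]

theorem exists_cob_layer (hd : (3 : ℕ∞) ≤ LocCoh.depth (A ⧸ J) (A ⧸ J))
    (hcov : ∀ x : Spec A, x ≠ closedPoint A → ∃ i, x ∈ bo (f i))
    (hle : ∀ i, bo (f i) ≤ FEt.puncturedSpec A) (a : ∀ i j, Γ(Spec A, bo (f i) ⊓ bo (f j)))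
    (ha : ∀ i j k, resR (inf_le_left : bo (f i) ⊓ bo (f j) ⊓ bo (f k) ≤ _) (a i j) +
      resR (le_inf (inf_le_left.trans inf_le_right) inf_le_right) (a j k) -
      resR (le_inf (inf_le_left.trans inf_le_left) inf_le_right) (a i k) ∈
        J.map (algebraMap A Γ(Spec A, bo (f i) ⊓ bo (f j) ⊓ bo (f k)))) :
    ∃ W : ∀ i, Γ(Spec A, bo (f i)), ∀ i j,
      a i j - (resR inf_le_right (W j) - resR inf_le_left (W i)) ∈
        J.map (algebraMap A Γ(Spec A, bo (f i) ⊓ bo (f j))) := by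
  let B' := CommRingCat.of (A ⧸ J)
  haveI : IsLocalRing B' := inferInstanceAs (IsLocalRing (A ⧸ J))
  haveI : IsNoetherianRing B' := inferInstanceAs (IsNoetherianRing (A ⧸ J))
  have hs : Function.Surjective (algebraMap A B') := Ideal.Quotient.mk_surjective
  haveI := isLocalHom_of_surjective (A := A) (B := B') hs
  obtain ⟨hcov', hle'⟩ := cover_quot (B := B') f hs hcov hle
  have hmem : ∀ a ∈ J, algebraMap A B' a = 0 := fun a ha => Ideal.Quotient.eq_zero_iff_mem.2 ha
  let π := spMap A B'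
  have hcoc : IsCoc (R := B') (fun i => algebraMap A B' (f i))
      (fun i j => π.app (bo (f i) ⊓ bo (f j)) (a i j)) := fun i j k => by
    have h1 := app_eq_zero_of_mem hmem (ha i j k)
    rw [map_sub, map_add, app_resR, app_resR, app_resR, sub_eq_zero] at h1
    exact h1
  obtain ⟨w, hw⟩ := cech_one (R := B') _ hd hcov' hle' _ hcoc
  choose W hW using fun i => exists_lift_bo (A := A) (B := B') hs (U := bo (f i)) rfl (w i)
  refine ⟨W, fun i j => mem_map_of_app_eq_zero (B := B') (fun c hc => Ideal.Quotient.eq_zero_iff_mem.1 hc)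
    (bo_mul' (f i) (f j)) _ ?_⟩
  rw [map_sub, map_sub, app_resR, app_resR, hW, hW, sub_eq_zero]
  exact hw i j

theorem NearTriv.exists_step (ht : IsTrans f t) (L : ∀ n, LayerBasis J n)
    (hd : (3 : ℕ∞) ≤ LocCoh.depth (A ⧸ J) (A ⧸ J))
    (hcov : ∀ x : Spec A, x ≠ closedPoint A → ∃ i, x ∈ bo (f i))
    (hle : ∀ i, bo (f i) ≤ FEt.puncturedSpec A) {n : ℕ} (hn : 1 ≤ n)
    {u u₀ : ∀ i, Γ(Spec A, bo (f i))} (h₀ : NearTriv J f t n u u₀) :
    ∃ v v' : ∀ i, Γ(Spec A, bo (f i)), NearTriv J f t (n + 1) v v' ∧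
      ∀ i, v i - u i ∈ pw J n (bo (f i)) ∧ v' i - u₀ i ∈ pw J n (bo (f i)) := by
  classical
  obtain ⟨u', h, hinv, hdiff⟩ := h₀.exists_improve hn
  let e : ∀ i j, Γ(Spec A, bo (f i) ⊓ bo (f j)) := fun i j =>
    resR inf_le_left (u i) * t i j * resR inf_le_right (u' j) - 1
  have he : ∀ i j, e i j ∈ pw J n (bo (f i) ⊓ bo (f j)) := h.triv
  have hcoc : ∀ i j k, resR (inf_le_left : bo (f i) ⊓ bo (f j) ⊓ bo (f k) ≤ _) (e i j) +
      resR (le_inf (inf_le_left.trans inf_le_right) inf_le_right) (e j k) -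
      resR (le_inf (inf_le_left.trans inf_le_left) inf_le_right) (e i k) ∈
        pw J (n + 1) (bo (f i) ⊓ bo (f j) ⊓ bo (f k)) := by
    intro i j k
    have hj : bo (f i) ⊓ bo (f j) ⊓ bo (f k) ≤ bo (f j) := inf_le_left.trans inf_le_right
    have h1 := resR_mem_pw hj (hinv j)
    have h2 := pw_mono (by omega : n + 1 ≤ n + n) (mul_mem_pw
      (resR_mem_pw (inf_le_left : bo (f i) ⊓ bo (f j) ⊓ bo (f k) ≤ _) (he i j))
      (resR_mem_pw (le_inf hj inf_le_right : bo (f i) ⊓ bo (f j) ⊓ bo (f k) ≤ _) (he j k)))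
    have h3 := sub_mem (Ideal.mul_mem_left _
      (resR (le_inf (inf_le_left.trans inf_le_left) inf_le_right) (e i k) + 1) h1) h2
    refine (congrArg (· ∈ pw J (n + 1) (bo (f i) ⊓ bo (f j) ⊓ bo (f k))) ?_).mp h3
    simp only [e, map_sub, map_mul, map_one, resR_resR]
    rw [← ht.mul i j k]
    ring
  choose a ha using fun i j => (L n).span_map (he i j)
  have hacoc : ∀ (c : Fin (L n).r) i j k, resR (inf_le_left : bo (f i) ⊓ bo (f j) ⊓ bo (f k) ≤ _) (a i j c) +
      resR (le_inf (inf_le_left.trans inf_le_right) inf_le_right) (a j k c) -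
      resR (le_inf (inf_le_left.trans inf_le_left) inf_le_right) (a i k c) ∈
        J.map (algebraMap A Γ(Spec A, bo (f i) ⊓ bo (f j) ⊓ bo (f k))) := by
    intro c i j k
    have h1 := resR_mem_pw (inf_le_left : bo (f i) ⊓ bo (f j) ⊓ bo (f k) ≤ _) (ha i j)
    have h2 := resR_mem_pw
      (le_inf (inf_le_left.trans inf_le_right) inf_le_right : bo (f i) ⊓ bo (f j) ⊓ bo (f k) ≤ _) (ha j k)
    have h3 := resR_mem_pw
      (le_inf (inf_le_left.trans inf_le_left) inf_le_right : bo (f i) ⊓ bo (f j) ⊓ bo (f k) ≤ _) (ha i k)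
    have gen : ∀ (U : (Spec A).Opens) (g : A), U = bo g → ∀ b : Fin (L n).r → Γ(Spec A, U),
        ∑ c, b c * algebraMap A _ ((L n).g c) ∈ pw J (n + 1) U →
          ∀ c, b c ∈ J.map (algebraMap A Γ(Spec A, U)) := by
      rintro U g rfl b hb c
      exact (L n).indep_map (Submonoid.powers g) b hb c
    refine gen _ (f i * f j * f k) (by rw [bo_mul', bo_mul'])
      (fun c => resR (inf_le_left : bo (f i) ⊓ bo (f j) ⊓ bo (f k) ≤ _) (a i j c) +
        resR (le_inf (inf_le_left.trans inf_le_right) inf_le_right) (a j k c) -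
        resR (le_inf (inf_le_left.trans inf_le_left) inf_le_right) (a i k c)) ?_ c
    refine (congrArg (· ∈ pw J (n + 1) (bo (f i) ⊓ bo (f j) ⊓ bo (f k))) ?_).mp
      (sub_mem (hcoc i j k) (sub_mem (add_mem h1 h2) h3))
    simp only [map_sub, map_sum, map_mul, resR_algebraMap, add_mul, sub_mul, Finset.sum_add_distrib,
      Finset.sum_sub_distrib]
    ring
  choose W hW using fun c => exists_cob_layer hd hcov hle (fun i j => a i j c) (hacoc c)
  let G : ∀ i, Γ(Spec A, bo (f i)) := fun i => ∑ c, W c i * algebraMap A _ ((L n).g c)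
  have hG : ∀ i, G i ∈ pw J n (bo (f i)) := fun i =>
    sum_mem fun c _ => Ideal.mul_mem_left _ _ (Ideal.mem_map_of_mem _ ((L n).mem c))
  have hGe : ∀ i j, e i j - (resR inf_le_right (G j) - resR inf_le_left (G i)) ∈
      pw J (n + 1) (bo (f i) ⊓ bo (f j)) := by
    intro i j
    have h1 : ∑ c, (a i j c - (resR inf_le_right (W c j) - resR inf_le_left (W c i))) *
        algebraMap A Γ(Spec A, bo (f i) ⊓ bo (f j)) ((L n).g c) ∈ pw J (n + 1) (bo (f i) ⊓ bo (f j)) :=
      sum_mem fun c _ => by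
        rw [pw, pow_succ', Ideal.map_mul]
        exact Ideal.mul_mem_mul (hW c i j) (Ideal.mem_map_of_mem _ ((L n).mem c))
    refine (congrArg (· ∈ pw J (n + 1) (bo (f i) ⊓ bo (f j))) ?_).mp (add_mem (ha i j) h1)
    simp only [G, map_sum, map_mul, resR_algebraMap, sub_mul, Finset.sum_sub_distrib]
    ring
  refine ⟨fun i => u i * (1 + G i), fun i => u' i * (1 - G i), ⟨fun i => ?_, fun i j => ?_⟩,
    fun i => ⟨?_, ?_⟩⟩
  · have := sub_mem (hinv i) (Ideal.mul_mem_left _ (u i * u' i)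
      (pw_mono (by omega : n + 1 ≤ n + n) (mul_mem_pw (hG i) (hG i))))
    refine (congrArg (· ∈ pw J (n + 1) (bo (f i))) ?_).mp this
    ring
  · have hGi := resR_mem_pw (inf_le_left : bo (f i) ⊓ bo (f j) ≤ _) (hG i)
    have hGj := resR_mem_pw (inf_le_right : bo (f i) ⊓ bo (f j) ≤ _) (hG j)
    have h1 := pw_mono (by omega : n + 1 ≤ n + n) (mul_mem_pw (he i j) (sub_mem hGi hGj))
    have h2 := Ideal.mul_mem_left _ (1 + e i j) (pw_mono (by omega : n + 1 ≤ n + n) (mul_mem_pw hGi hGj))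
    refine (congrArg (· ∈ pw J (n + 1) (bo (f i) ⊓ bo (f j))) ?_).mp
      (sub_mem (add_mem (hGe i j) h1) h2)
    simp only [e, map_add, map_sub, map_mul, map_one]
    ring
  · refine (congrArg (· ∈ pw J n (bo (f i))) ?_).mp (Ideal.mul_mem_left _ (u i) (hG i))
    ring
  · refine (congrArg (· ∈ pw J n (bo (f i))) ?_).mp (sub_mem (hdiff i) (Ideal.mul_mem_left _ (u' i) (hG i)))
    ring

theorem exists_nearTriv_seq (ht : IsTrans f t) (L : ∀ n, LayerBasis J n)
    (hd : (3 : ℕ∞) ≤ LocCoh.depth (A ⧸ J) (A ⧸ J))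
    (hcov : ∀ x : Spec A, x ≠ closedPoint A → ∃ i, x ∈ bo (f i))
    (hle : ∀ i, bo (f i) ≤ FEt.puncturedSpec A)
    {u u' : ∀ i, Γ(Spec A, bo (f i))} (h : NearTriv J f t 1 u u') :
    ∃ v v' : ℕ → ∀ i, Γ(Spec A, bo (f i)), (∀ n, NearTriv J f t (n + 1) (v n) (v' n)) ∧
      ∀ n i, v (n + 1) i - v n i ∈ pw J (n + 1) (bo (f i)) ∧ v' (n + 1) i - v' n i ∈ pw J (n + 1) (bo (f i)) := by
  let T : ℕ → Type u := fun n =>
    {p : (∀ i, Γ(Spec A, bo (f i))) × (∀ i, Γ(Spec A, bo (f i))) // NearTriv J f t (n + 1) p.1 p.2}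
  have step : ∀ n (p : T n), ∃ q : T (n + 1), ∀ i, q.1.1 i - p.1.1 i ∈ pw J (n + 1) (bo (f i)) ∧
      q.1.2 i - p.1.2 i ∈ pw J (n + 1) (bo (f i)) := fun n p => by
    obtain ⟨a, b, hab, hd'⟩ := p.2.exists_step ht L hd hcov hle n.succ_pos
    exact ⟨⟨(a, b), hab⟩, hd'⟩
  choose next hnext using step
  let seq : ∀ n, T n := fun n => Nat.rec (motive := T) ⟨(u, u'), h⟩ next n
  exact ⟨fun n => (seq n).1.1, fun n => (seq n).1.2, fun n => (seq n).2, fun n => hnext n (seq n)⟩

end Groth.Agent.Para81
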